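import Groth.Agent.InvX.Tensor
import Groth.Agent.InvX.Pullback
import Groth.Agent.InvX.GenLocusPull
import Groth.Agent.InvUfdLib.Trivial

/-!
# Trivializing an invertible module from its frames
-/

universe u

open CategoryTheory AlgebraicGeometry TopologicalSpace Opposite

namespace Groth.Agent.PicfLib.Trans

open Groth.Agent.AModX Groth.Agent.InvX

variable {X : Scheme.{u}} {M : X.Modules}

theorem nonempty_iso_of_agree {ι : Type u} (U : ι → X.Opens) (hcov : ∀ x, ∃ i, x ∈ U i)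
    (e : ∀ i, Γ(M, U i)) (he : ∀ i, IsFrame (e i))
    (h : ∀ i j, res M inf_le_left (e i) = res M (inf_le_right : U i ⊓ U j ≤ U j) (e j)) :
    Nonempty (M ≅ Coh.structureModule X) := by
  obtain ⟨s, hs, -⟩ := existsUnique_glue (M := M) (V := ⊤) U (fun _ => le_top) (fun p _ => hcov p) e h
  refine InvUfdLib.nonempty_iso_of_frame (s := s)
    (InvUfdLib.isFrame_of_cover U (fun _ => le_top) (fun p _ => hcov p) s fun i => ?_)
  rw [hs]
  exact he i

theorem isUnit_coord {U : X.Opens} {e e' : Γ(M, U)} (he : IsFrame e) (he' : IsFrame e') {g : Γ(X, U)}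
    (h : e' = g • e) : IsUnit g := by
  obtain ⟨r, hr⟩ := he'.exists_coord le_rfl e
  rw [res_self] at hr
  refine IsUnit.of_mul_eq_one r (he.coord_unique le_rfl ?_)
  rw [res_self, one_smul, mul_comm, mul_smul, ← h, ← hr]

/-- Powers of a section. -/
noncomputable def powSec {U : X.Opens} (e : Γ(M, U)) : ∀ n, Γ(CohB1.tensorPow M n, U)
  | 0 => (1 : Γ(X, U))
  | n + 1 => tmul (powSec e n) e

theorem isFrame_powSec {U : X.Opens} {e : Γ(M, U)} (he : IsFrame e) : ∀ n, IsFrame (powSec e n)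
  | 0 => isFrame_one U
  | n + 1 => isFrame_tmul (isFrame_powSec he n) he

theorem res_powSec {U V : X.Opens} (h : V ≤ U) (e : Γ(M, U)) :
    ∀ n, res (CohB1.tensorPow M n) h (powSec e n) = powSec (res M h e) n
  | 0 => map_one (resR (X := X) h)
  | n + 1 => (res_tmul h (powSec e n) e).trans (congrArg (tmul · (res M h e)) (res_powSec h e n))

theorem powSec_smul {U : X.Opens} (g : Γ(X, U)) (e : Γ(M, U)) :
    ∀ n, powSec (g • e) n = g ^ n • powSec e n
  | 0 => by rw [pow_zero, one_smul]; rfl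
  | n + 1 => by
    show tmul (powSec (g • e) n) (g • e) = g ^ (n + 1) • tmul (powSec e n) e
    rw [powSec_smul g e n, tmul_smul_left, tmul_smul_right, ← mul_smul, pow_succ]

variable {Y : Scheme.{u}} (f : Y ⟶ X)

/-- The coordinates of frames in a trivialization of the inverse image. -/
theorem exists_pullCoord (φ : (Scheme.Modules.pullback f).obj M ≅ Coh.structureModule Y) :
    ∃ c : ∀ (U : X.Opens), Γ(M, U) → Γ(Y, f ⁻¹ᵁ U),
      (∀ (U : X.Opens) (e : Γ(M, U)), IsFrame e → IsUnit (c U e)) ∧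
      (∀ (U : X.Opens) (g : Γ(X, U)) (e : Γ(M, U)), c U (g • e) = f.app U g * c U e) ∧
      (∀ (U V : X.Opens) (h : V ≤ U) (e : Γ(M, U)),
        c V (res M h e) = resR (f.preimage_mono h) (c U e)) := by
  refine ⟨fun U e => (show Γ(Y, f ⁻¹ᵁ U) from φ.hom.app (f ⁻¹ᵁ U) (pullElt f e)), fun U e he => ?_, fun U g e => ?_,
    fun U V h e => ?_⟩
  · refine isUnit_coord (isFrame_one (X := Y) (f ⁻¹ᵁ U)) ((isFrame_pullElt f he).map_iso φ) ?_
    show (show Γ(Y, f ⁻¹ᵁ U) from φ.hom.app (f ⁻¹ᵁ U) (pullElt f e)) = _ * 1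
    exact (mul_one _).symm
  · show φ.hom.app (f ⁻¹ᵁ U) (pullElt f (g • e)) = f.app U g • φ.hom.app (f ⁻¹ᵁ U) (pullElt f e)
    rw [pullElt_smul]
    exact Scheme.Modules.Hom.app_smul φ.hom _ _
  · show φ.hom.app (f ⁻¹ᵁ V) (pullElt f (res M h e)) = _
    rw [← res_pullElt, app_res]
    rfl

end Groth.Agent.PicfLib.Trans
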