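import Groth.Agent.PicfLib.UnitsSeq
import Groth.Prelude.Def_PicGrp

/-!
# The Picard sequence of a first order thickening
-/

universe u

open CategoryTheory CategoryTheory.Limits AlgebraicGeometry TopologicalSpace Opposite

namespace Groth.Agent.PicfLib.PicSeq

set_option backward.isDefEq.respectTransparency false
set_option backward.isDefEq.respectTransparency.types false
set_option linter.style.haveILetI false

open Groth.Agent.AModX H1Pic UnitsSeq

variable {Z X : Scheme.{u}} (i : Z ⟶ X)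

/-- Sections over the whole space are the units of the global functions. -/
noncomputable def topUnits : (units i).obj.obj (op (⊤ : X.Opens)) ≃+ Additive (Γ(Z, ⊤))ˣ :=
  AddEquiv.refl _

theorem val_eq_coe (s : (units i).obj.obj (op (⊤ : X.Opens))) :
    val i s = ((topUnits i s).toMul : (Γ(Z, ⊤))ˣ).1 := rfl

/-- The units of the global functions as degree zero cohomology. -/
noncomputable def h0Units : CohTop.H (units i) 0 ≃+ Additive (Γ(Z, ⊤))ˣ :=
  (Cech1.h0Equiv (units i)).trans (topUnits i)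

theorem h0Units_unitsRes (x : CohTop.H (units (𝟙 X)) 0) :
    (h0Units i (Cech1.hmap (unitsRes i) 0 x)).toMul =
      Units.map i.appTop.hom.toMonoidHom (h0Units (𝟙 X) x).toMul := by
  refine Units.ext ?_
  show val i (Cech1.h0Equiv (units i) (Cech1.hmap (unitsRes i) 0 x)) =
    i.app ⊤ (val (𝟙 X) (Cech1.h0Equiv (units (𝟙 X)) x))
  rw [Cech1.h0Equiv_hmap, val_unitsRes]

theorem exists_unit_lift {I : X.IdealSheafData} (hI : I * I = ⊥)
    (hsurj : Function.Surjective I.subschemeι.appTop.hom) (v : (Γ(I.subscheme, ⊤))ˣ) :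
    ∃ w, Units.map I.subschemeι.appTop.hom.toMonoidHom w = v := by
  obtain ⟨a, ha⟩ := hsurj v.1
  obtain ⟨b, hb⟩ := hsurj (v⁻¹).1
  obtain ⟨k, hk⟩ := OmegaLib.exists_idealSect_eq I ⊤ (a * b - 1) (by
    show I.subschemeι.appTop.hom (a * b - 1) = 0
    rw [map_sub, map_mul, map_one, ha, hb, Units.mul_inv, sub_self])
  have h := isUnit_one_add hI ⊤ k
  rw [hk, add_sub_cancel] at h
  exact ⟨(isUnit_of_mul_isUnit_left h).unit, Units.ext ha⟩

theorem exists_exact (I : X.IdealSheafData) (hI : I * I = ⊥) [PicGrp.Law X] [PicGrp.Law I.subscheme]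
    (hi : PicGrp.PullMul I.subschemeι) :
    ∃ (ε : Multiplicative (Coh.HH X (ClSub.idealMod I) 0) →* (Γ(X, ⊤))ˣ)
      (δ₀ : (Γ(I.subscheme, ⊤))ˣ →* Multiplicative (Coh.HH X (ClSub.idealMod I) 1))
      (α : Multiplicative (Coh.HH X (ClSub.idealMod I) 1) →* PicLoc.PicSet X)
      (δ₁ : PicLoc.PicSet I.subscheme →* Multiplicative (Coh.HH X (ClSub.idealMod I) 2)),
      Function.Injective ε ∧
      (Units.map I.subschemeι.appTop.hom.toMonoidHom).ker = ε.range ∧
      δ₀.ker = (Units.map I.subschemeι.appTop.hom.toMonoidHom).range ∧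
      α.ker = δ₀.range ∧
      (PicGrp.pullHom I.subschemeι hi).ker = α.range ∧
      δ₁.ker = (PicGrp.pullHom I.subschemeι hi).range := by
  have hS := seq_shortExact hI
  let j := I.subschemeι
  have hid : IsHomeomorph (𝟙 X : X ⟶ X).base := (Homeomorph.refl X).isHomeomorph
  let P := picEquiv (𝟙 X) hid
  let Q := picEquiv j (isHomeomorph_subschemeι I hI)
  have hP : Function.Injective (picHom (𝟙 X)) := (picHom_bijective hid).1
  let e : Multiplicative (CohTop.H (seq hI).X₁ 0) →* (Γ(X, ⊤))ˣ :=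
    AddMonoidHom.toMultiplicativeLeft
      ((h0Units (𝟙 X)).toAddMonoidHom.comp (Cech1.hmap (seq hI).f 0))
  let d₀ : (Γ(I.subscheme, ⊤))ˣ →* Multiplicative (CohTop.H (seq hI).X₁ 1) :=
    AddMonoidHom.toMultiplicativeRight
      ((Cech1.bdry hS 0).comp (h0Units j).symm.toAddMonoidHom)
  let a : Multiplicative (CohTop.H (seq hI).X₁ 1) →* PicLoc.PicSet X :=
    (picHom (𝟙 X)).comp (Cech1.hmap (seq hI).f 1).toMultiplicative
  let d₁ : PicLoc.PicSet I.subscheme →* Multiplicative (CohTop.H (seq hI).X₁ 2) :=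
    (Cech1.bdry hS 1).toMultiplicative.comp Q.symm.toMonoidHom
  have hpull : ∀ z, PicGrp.pullHom I.subschemeι hi (picHom (𝟙 X) z) =
      picHom j (Multiplicative.ofAdd (Cech1.hmap (seq hI).g 1 z.toAdd)) := fun z =>
    Subtype.ext (toPic_pull j z.toAdd).symm
  refine ⟨e, d₀, a, d₁, ?_, ?_, ?_, ?_, ?_, ?_⟩
  · intro x y h
    refine Multiplicative.toAdd.injective ((Cech1.h0Equiv (seq hI).X₁).injective
      (oneAdd_injective hI ⊤ ?_))
    have h' := (h0Units (𝟙 X)).injective (Additive.toMul.injective h)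
    exact (Cech1.h0Equiv_hmap (seq hI).f x.toAdd).symm.trans
      ((congrArg (Cech1.h0Equiv (seq hI).X₂) h').trans (Cech1.h0Equiv_hmap (seq hI).f y.toAdd))
  · ext v
    obtain ⟨y, rfl⟩ : ∃ y, (h0Units (𝟙 X) y).toMul = v :=
      ⟨(h0Units (𝟙 X)).symm (Additive.ofMul v), by rw [AddEquiv.apply_symm_apply]; rfl⟩
    rw [MonoidHom.mem_ker, ← h0Units_unitsRes j y]
    refine Iff.trans ?_ ((Cech1.hmap_g_eq_zero hS 0 y).trans ?_)
    · exact ⟨fun h => (h0Units j).injective ((Additive.toMul.injective h).trans (map_zero _).symm),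
        fun h => by rw [show Cech1.hmap (unitsRes j) 0 y = 0 from h, map_zero]; rfl⟩
    · constructor
      · rintro ⟨x, rfl⟩; exact ⟨Multiplicative.ofAdd x, rfl⟩
      · rintro ⟨x, hx⟩
        exact ⟨x.toAdd, (h0Units (𝟙 X)).injective (Additive.toMul.injective hx)⟩
  · ext v
    refine (Cech1.bdry_eq_zero hS 0 ((h0Units j).symm (Additive.ofMul v))).trans ?_
    constructor
    · rintro ⟨y, hy⟩
      refine ⟨(h0Units (𝟙 X) y).toMul, ?_⟩
      rw [← h0Units_unitsRes j y, show Cech1.hmap (unitsRes j) 0 y = _ from hy,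
        AddEquiv.apply_symm_apply]
      rfl
    · rintro ⟨w, hw⟩
      refine ⟨(h0Units (𝟙 X)).symm (Additive.ofMul w), (h0Units j).injective
        (Additive.toMul.injective ?_)⟩
      refine (h0Units_unitsRes j _).trans ?_
      rw [AddEquiv.apply_symm_apply, AddEquiv.apply_symm_apply]
      exact hw
  · ext x
    rw [MonoidHom.mem_ker]
    refine (map_eq_one_iff _ hP).trans ((Cech1.hmap_f_eq_zero hS 0 x.toAdd).trans ?_)
    constructor
    · rintro ⟨y, hy⟩
      refine ⟨(h0Units j y).toMul, ?_⟩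
      show Multiplicative.ofAdd (Cech1.bdry hS 0 ((h0Units j).symm (h0Units j y))) = x
      rw [AddEquiv.symm_apply_apply]
      exact congrArg Multiplicative.ofAdd hy
    · rintro ⟨v, rfl⟩; exact ⟨_, rfl⟩
  · ext c
    obtain ⟨z, rfl⟩ := (picHom_bijective hid).2 c
    rw [MonoidHom.mem_ker, hpull, map_eq_one_iff _ (picHom_bijective (isHomeomorph_subschemeι I hI)).1]
    refine (Cech1.hmap_g_eq_zero hS 1 z.toAdd).trans ?_
    constructor
    · rintro ⟨y, hy⟩
      exact ⟨Multiplicative.ofAdd y, congrArg (picHom (𝟙 X)) (congrArg Multiplicative.ofAdd hy)⟩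
    · rintro ⟨y, hy⟩
      exact ⟨y.toAdd, congrArg Multiplicative.toAdd (hP hy)⟩
  · ext c
    obtain ⟨z, rfl⟩ := Q.surjective c
    refine Iff.trans ?_ ((Cech1.bdry_eq_zero hS 1 z.toAdd).trans ?_)
    · show Multiplicative.ofAdd (Cech1.bdry hS 1 (Q.symm (Q z)).toAdd) = 1 ↔ _
      rw [MulEquiv.symm_apply_apply]
      exact ⟨fun h => congrArg Multiplicative.toAdd h, fun h => congrArg Multiplicative.ofAdd h⟩
    · constructor
      · rintro ⟨y, hy⟩
        refine ⟨picHom (𝟙 X) (Multiplicative.ofAdd y), ?_⟩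
        rw [hpull]
        exact congrArg (picHom j) (congrArg Multiplicative.ofAdd hy)
      · rintro ⟨c, hc⟩
        obtain ⟨w, rfl⟩ := (picHom_bijective hid).2 c
        rw [hpull] at hc
        exact ⟨w.toAdd, congrArg Multiplicative.toAdd (Q.injective hc)⟩

end Groth.Agent.PicfLib.PicSeq
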