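import Groth.Agent.TorsLib.H1
import Groth.Agent.SiteBase.Top
import Groth.Agent.SiteBase.Cartan
import Groth.Agent.QCoh.Ab.Godement
import Groth.Prelude.Def_CohTop

/-!
# Cocycles and the first cohomology of an abelian sheaf on a space

The class of a cocycle is computed through the Godement embedding.
-/

universe u

open CategoryTheory CategoryTheory.Limits TopologicalSpace Opposite Abelian

namespace Groth.Agent.PicfLib.Cech1

variable {X : TopCat.{u}}

/-- Restriction of sections. -/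
noncomputable abbrev rs (F : CohTop.Ab X) {U V : Opens X} (h : V ≤ U) :
    F.obj.obj (op U) →+ F.obj.obj (op V) :=
  (F.obj.map (homOfLE h).op).hom

theorem rs_rs (F : CohTop.Ab X) {U V W : Opens X} (h : V ≤ U) (h' : W ≤ V) (s : F.obj.obj (op U)) :
    rs F h' (rs F h s) = rs F (h'.trans h) s :=
  ((ConcreteCategory.congr_hom (F.obj.map_comp (homOfLE h).op (homOfLE h').op) s).symm.trans rfl)

theorem rs_self (F : CohTop.Ab X) {U : Opens X} (s : F.obj.obj (op U)) : rs F (le_refl U) s = s :=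
  ConcreteCategory.congr_hom (F.obj.map_id (op U)) s

theorem app_rs {F G : CohTop.Ab X} (φ : F ⟶ G) {U V : Opens X} (h : V ≤ U) (s : F.obj.obj (op U)) :
    φ.hom.app (op V) (rs F h s) = rs G h (φ.hom.app (op U) s) :=
  ConcreteCategory.congr_hom (φ.hom.naturality (homOfLE h).op) s

theorem sep (F : CohTop.Ab X) {ι : Type u} (U : ι → Opens X) {V : Opens X} (hcov : V ≤ iSup U)
    (s t : F.obj.obj (op V))
    (h : ∀ a, rs F (inf_le_left : V ⊓ U a ≤ V) s = rs F (inf_le_left : V ⊓ U a ≤ V) t) : s = t :=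
  TopCat.Sheaf.eq_of_locally_eq' F (fun a => V ⊓ U a) V (fun _ => homOfLE inf_le_left)
    (fun p hp => by
      obtain ⟨a, ha⟩ := Opens.mem_iSup.1 (hcov hp)
      exact Opens.mem_iSup.2 ⟨a, hp, ha⟩) s t h

theorem glue (F : CohTop.Ab X) {ι : Type u} (U : ι → Opens X) (hcov : iSup U = ⊤)
    (s : ∀ a, F.obj.obj (op (U a)))
    (h : ∀ a b, rs F inf_le_left (s a) = rs F (inf_le_right : U a ⊓ U b ≤ U b) (s b)) :
    ∃ t : F.obj.obj (op (⊤ : Opens X)), ∀ a, rs F le_top t = s a :=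
  (TopCat.Sheaf.existsUnique_gluing' F U ⊤ (fun _ => homOfLE le_top) hcov.ge s h).exists

theorem eq_of_cover (F : CohTop.Ab X) {ι : Type u} (U : ι → Opens X) (hcov : iSup U = ⊤)
    (s t : F.obj.obj (op (⊤ : Opens X))) (h : ∀ a, rs F le_top s = rs F (le_top : U a ≤ ⊤) t) : s = t :=
  TopCat.Sheaf.eq_of_locally_eq' F U ⊤ (fun _ => homOfLE le_top) hcov.ge s t h

/-! ### Global sections -/

/-- Global sections as morphisms from the constant sheaf. -/
noncomputable def topEquiv (F : CohTop.Ab X) :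
    (TorsLib.cZ (Opens.grothendieckTopology X) ⟶ F) ≃+ F.obj.obj (op (⊤ : Opens X)) :=
  AddEquiv.ofBijective
    (AddMonoidHom.mk' (fun φ => (TorsLib.gsOfHom φ).val (op ⊤)) fun φ ψ => by
      simp only [TorsLib.gsOfHom, Adjunction.homEquiv_unit]
      rfl)
    ⟨fun φ ψ h => TorsLib.gsOfHom_ext fun U => by
      rw [← (TorsLib.gsOfHom φ).compat (homOfLE (le_top : U.unop ≤ ⊤)).op,
        ← (TorsLib.gsOfHom ψ).compat (homOfLE (le_top : U.unop ≤ ⊤)).op]
      exact congrArg _ h,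
    fun s => by
      obtain ⟨φ, hφ⟩ := TorsLib.gsOfHom_surjective (F := F)
        ⟨fun U => rs F (le_top : U.unop ≤ ⊤) s, fun {U V} f => rs_rs F _ (leOfHom f.unop) s⟩
      exact ⟨φ, (hφ _).trans (rs_self F s)⟩⟩

theorem topEquiv_comp {F G : CohTop.Ab X} (φ : TorsLib.cZ _ ⟶ F) (g : F ⟶ G) :
    topEquiv G (φ ≫ g) = g.hom.app (op ⊤) (topEquiv F φ) :=
  TorsLib.gsOfHom_comp φ g (op ⊤)

/-- Degree zero cohomology is the global sections. -/
noncomputable def h0Equiv (F : CohTop.Ab X) : CohTop.H F 0 ≃+ F.obj.obj (op (⊤ : Opens X)) :=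
  (Ext.addEquiv₀).trans (topEquiv F)

/-- The functoriality of cohomology. -/
noncomputable def hmap {F G : CohTop.Ab X} (φ : F ⟶ G) (n : ℕ) : CohTop.H F n →+ CohTop.H G n :=
  AddMonoidHom.mk' (fun x => Ext.comp x (Ext.mk₀ φ) (add_zero n)) fun x y => Ext.add_comp x y _ _

/-- The connecting map of a short exact sequence. -/
noncomputable def bdry {S : ShortComplex (CohTop.Ab X)} (hS : S.ShortExact) (n : ℕ) :
    CohTop.H S.X₃ n →+ CohTop.H S.X₁ (n + 1) :=
  AddMonoidHom.mk' (fun x => Ext.comp x hS.extClass rfl) fun x y => Ext.add_comp x y _ _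

theorem bdry_eq_zero {S : ShortComplex (CohTop.Ab X)} (hS : S.ShortExact) (n : ℕ) (x : CohTop.H S.X₃ n) :
    bdry hS n x = 0 ↔ ∃ y, hmap S.g n y = x := by
  refine ⟨fun h => Ext.covariant_sequence_exact₃ _ hS x rfl h, ?_⟩
  rintro ⟨y, rfl⟩
  show Ext.comp (Ext.comp y (Ext.mk₀ S.g) (add_zero n)) hS.extClass rfl = 0
  rw [Ext.comp_assoc_of_second_deg_zero, hS.comp_extClass, Ext.comp_zero]

theorem hmap_f_eq_zero {S : ShortComplex (CohTop.Ab X)} (hS : S.ShortExact) (n : ℕ)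
    (x : CohTop.H S.X₁ (n + 1)) : hmap S.f (n + 1) x = 0 ↔ ∃ y, bdry hS n y = x := by
  refine ⟨fun h => Ext.covariant_sequence_exact₁ _ hS x h rfl, ?_⟩
  rintro ⟨y, rfl⟩
  show Ext.comp (Ext.comp y hS.extClass rfl) (Ext.mk₀ S.f) (add_zero _) = 0
  rw [Ext.comp_assoc_of_third_deg_zero, hS.extClass_comp, Ext.comp_zero]

theorem hmap_g_eq_zero {S : ShortComplex (CohTop.Ab X)} (hS : S.ShortExact) (n : ℕ)
    (x : CohTop.H S.X₂ n) : hmap S.g n x = 0 ↔ ∃ y, hmap S.f n y = x := by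
  refine ⟨fun h => Ext.covariant_sequence_exact₂ _ hS x h, ?_⟩
  rintro ⟨y, rfl⟩
  show Ext.comp (Ext.comp y (Ext.mk₀ S.f) (add_zero n)) (Ext.mk₀ S.g) (add_zero n) = 0
  rw [Ext.comp_assoc_of_second_deg_zero, Ext.mk₀_comp_mk₀, S.zero, Ext.mk₀_zero, Ext.comp_zero]

theorem h0Equiv_hmap {F G : CohTop.Ab X} (φ : F ⟶ G) (x : CohTop.H F 0) :
    h0Equiv G (hmap φ 0 x) = φ.hom.app (op ⊤) (h0Equiv F x) := by
  obtain ⟨ψ, rfl⟩ := Ext.addEquiv₀.symm.surjective x
  show topEquiv G (Ext.addEquiv₀ (Ext.comp (Ext.addEquiv₀.symm ψ) (Ext.mk₀ φ) (add_zero 0))) = _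
  rw [show Ext.comp (Ext.addEquiv₀.symm ψ) (Ext.mk₀ φ) (add_zero 0) = Ext.addEquiv₀.symm (ψ ≫ φ) from
    Ext.mk₀_comp_mk₀ ψ φ]
  simp only [h0Equiv, AddEquiv.trans_apply, AddEquiv.apply_symm_apply]
  exact topEquiv_comp ψ φ

/-! ### The Godement sequence -/

/-- The Godement sequence. -/
noncomputable abbrev gSeq (F : CohTop.Ab X) : ShortComplex (CohTop.Ab X) :=
  ShortComplex.mk (QCoh.Ab.toGodement F) (cokernel.π _) (cokernel.condition _)

theorem gSeq_shortExact (F : CohTop.Ab X) : (gSeq F).ShortExact where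
  exact := ShortComplex.exact_cokernel _
  mono_f := QCoh.Ab.instMonoSheafAddCommGrpCatToGodement F
  epi_g := coequalizer.π_epi

theorem isFlasque_godement (F : CohTop.Ab X) : TopCat.Sheaf.IsFlasque (QCoh.Ab.godement F) := by
  classical
  refine ⟨fun {U V} i => (AddCommGrpCat.epi_iff_surjective _).2 fun t => ?_⟩
  refine ⟨fun x => if hx : x.1 ∈ V.unop then t ⟨x.1, hx⟩ else 0, funext fun x => ?_⟩
  exact dif_pos x.2

theorem subsingleton_H_godement (F : CohTop.Ab X) (n : ℕ) :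
    Subsingleton (CohTop.H (gSeq F).X₂ (n + 1)) :=
  haveI := isFlasque_godement F
  SiteBase.subsingleton_H_of_isFlasque (QCoh.Ab.godement F) n

theorem gSeq_f_injective (F : CohTop.Ab X) (U : Opens X) :
    Function.Injective ((gSeq F).f.hom.app (op U)) :=
  TorsLib.injective_app (gSeq_shortExact F) (op U)

theorem gSeq_exact (F : CohTop.Ab X) (U : Opens X) (i : (gSeq F).X₂.obj.obj (op U))
    (h : (gSeq F).g.hom.app (op U) i = 0) : ∃ w : F.obj.obj (op U), (gSeq F).f.hom.app (op U) w = i :=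
  TorsLib.exists_of_app_eq_zero (gSeq_shortExact F) (op U) i h

theorem gSeq_g_f (F : CohTop.Ab X) (U : Opens X) (w : F.obj.obj (op U)) :
    (gSeq F).g.hom.app (op U) ((gSeq F).f.hom.app (op U) w) = 0 :=
  congr($((gSeq F).zero).hom.app (op U) w)

/-- The connecting map on global sections of the Godement quotient. -/
noncomputable def delta (F : CohTop.Ab X) :
    (gSeq F).X₃.obj.obj (op (⊤ : Opens X)) →+ CohTop.H F 1 :=
  (bdry (gSeq_shortExact F) 0).comp (h0Equiv (gSeq F).X₃).symm.toAddMonoidHom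

theorem delta_surjective (F : CohTop.Ab X) : Function.Surjective (delta F) := fun x => by
  obtain ⟨y, hy⟩ := (hmap_f_eq_zero (gSeq_shortExact F) 0 x).1
    (@Subsingleton.elim _ (subsingleton_H_godement F 0) _ _)
  refine ⟨h0Equiv _ y, ?_⟩
  show bdry (gSeq_shortExact F) 0 ((h0Equiv _).symm (h0Equiv _ y)) = x
  rw [AddEquiv.symm_apply_apply]
  exact hy

theorem delta_eq_zero (F : CohTop.Ab X) (q : (gSeq F).X₃.obj.obj (op (⊤ : Opens X))) :
    delta F q = 0 ↔ ∃ d, (gSeq F).g.hom.app (op ⊤) d = q := by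
  show bdry (gSeq_shortExact F) 0 ((h0Equiv _).symm q) = 0 ↔ _
  rw [bdry_eq_zero]
  constructor
  · rintro ⟨y, hy⟩
    exact ⟨h0Equiv _ y, by rw [← h0Equiv_hmap, hy, AddEquiv.apply_symm_apply]⟩
  · rintro ⟨d, rfl⟩
    refine ⟨(h0Equiv _).symm d, (h0Equiv _).injective ?_⟩
    rw [h0Equiv_hmap, AddEquiv.apply_symm_apply, AddEquiv.apply_symm_apply]

/-! ### Classes of cocycles -/

variable {ι : Type u}

/-- Cochains of degree one. -/
abbrev Fam2 (F : CohTop.Ab X) (U : ι → Opens X) : Type u := ∀ a b, F.obj.obj (op (U a ⊓ U b))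

/-- The cocycle identity. -/
def IsCocycle (F : CohTop.Ab X) (U : ι → Opens X) (u : Fam2 F U) : Prop :=
  ∀ (a b c : ι) (W : Opens X) (hab : W ≤ U a ⊓ U b) (hbc : W ≤ U b ⊓ U c) (hac : W ≤ U a ⊓ U c),
    rs F hac (u a c) = rs F hab (u a b) + rs F hbc (u b c)

/-- `x` is the class of the cochain `u`. -/
def IsCls (F : CohTop.Ab X) (U : ι → Opens X) (u : Fam2 F U) (x : CohTop.H F 1) : Prop :=
  ∃ (q : (gSeq F).X₃.obj.obj (op (⊤ : Opens X))) (i : ∀ a, (gSeq F).X₂.obj.obj (op (U a))),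
    delta F q = x ∧ (∀ a, (gSeq F).g.hom.app (op (U a)) (i a) = rs _ le_top q) ∧
      ∀ a b, (gSeq F).f.hom.app (op (U a ⊓ U b)) (u a b) =
        rs _ inf_le_right (i b) - rs _ inf_le_left (i a)

variable {F G : CohTop.Ab X} {U : ι → Opens X}

theorem IsCls.unique (hU : iSup U = ⊤) {u : Fam2 F U} {x y : CohTop.H F 1}
    (hx : IsCls F U u x) (hy : IsCls F U u y) : x = y := by
  obtain ⟨q, i, rfl, hi, hu⟩ := hx
  obtain ⟨q', i', rfl, hi', hu'⟩ := hy
  obtain ⟨d, hd⟩ := glue (gSeq F).X₂ U hU (fun a => i' a - i a) fun a b => by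
    rw [map_sub, map_sub]
    exact (sub_eq_sub_iff_sub_eq_sub.1 ((hu' a b).symm.trans (hu a b))).symm
  have hq : q' = q + (gSeq F).g.hom.app (op ⊤) d := eq_of_cover _ U hU _ _ fun a => by
    rw [map_add, ← app_rs, hd, ← hi, ← hi', map_sub, add_sub_cancel]
  rw [hq, map_add, (delta_eq_zero F _).2 ⟨d, rfl⟩, add_zero]

theorem IsCls.add {u v : Fam2 F U} {x y : CohTop.H F 1} (hx : IsCls F U u x) (hy : IsCls F U v y) :
    IsCls F U (fun a b => u a b + v a b) (x + y) := by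
  obtain ⟨q, i, rfl, hi, hu⟩ := hx
  obtain ⟨q', i', rfl, hi', hu'⟩ := hy
  refine ⟨q + q', fun a => i a + i' a, map_add _ _ _, fun a => by rw [map_add, map_add, hi, hi'],
    fun a b => ?_⟩
  rw [map_add, hu, hu', map_add, map_add]
  abel

theorem IsCls.refine' {κ : Type u} {V : κ → Opens X} (ρ : κ → ι) (hV : ∀ c, V c ≤ U (ρ c))
    {u : Fam2 F U} {x : CohTop.H F 1} (hx : IsCls F U u x) :
    IsCls F V (fun c d => rs F (inf_le_inf (hV c) (hV d)) (u (ρ c) (ρ d))) x := by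
  obtain ⟨q, i, rfl, hi, hu⟩ := hx
  refine ⟨q, fun c => rs _ (hV c) (i (ρ c)), rfl, fun c => ?_, fun c d => ?_⟩
  · rw [app_rs, hi, rs_rs]
  · rw [app_rs, hu, map_sub, rs_rs, rs_rs, rs_rs, rs_rs]

theorem exists_isCls (hU : iSup U = ⊤) (u : Fam2 F U) (hu : IsCocycle F U u) :
    ∃ x, IsCls F U u x := by
  classical
  have hmem : ∀ x : X, ∃ a, x ∈ U a := fun x => Opens.mem_iSup.1 (hU.ge (trivial : x ∈ (⊤ : Opens X)))
  choose c hc using hmem
  let i : ∀ a, (gSeq F).X₂.obj.obj (op (U a)) := fun a x =>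
    - (TopCat.Presheaf.germ F.obj (U a ⊓ U (c x.1)) x.1 ⟨x.2, hc x.1⟩).hom (u a (c x.1))
  have hu' : ∀ a b, (gSeq F).f.hom.app (op (U a ⊓ U b)) (u a b) =
      rs _ inf_le_right (i b) - rs _ inf_le_left (i a) := fun a b => funext fun x => by
    show (TopCat.Presheaf.germ F.obj (U a ⊓ U b) x.1 x.2).hom (u a b) =
      - (TopCat.Presheaf.germ F.obj (U b ⊓ U (c x.1)) x.1 ⟨x.2.2, hc x.1⟩).hom (u b (c x.1)) -
      - (TopCat.Presheaf.germ F.obj (U a ⊓ U (c x.1)) x.1 ⟨x.2.1, hc x.1⟩).hom (u a (c x.1))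
    let W : Opens X := U a ⊓ U b ⊓ U (c x.1)
    have hx : x.1 ∈ W := ⟨x.2, hc x.1⟩
    have h := congrArg (TopCat.Presheaf.germ F.obj W x.1 hx).hom
      (hu a b (c x.1) W inf_le_left (inf_le_inf_right _ inf_le_right) (inf_le_inf_right _ inf_le_left))
    simp only [map_add, rs] at h
    erw [TopCat.Presheaf.germ_res_apply, TopCat.Presheaf.germ_res_apply,
      TopCat.Presheaf.germ_res_apply] at h
    rw [h]
    abel
  obtain ⟨q, hq⟩ := glue (gSeq F).X₃ U hU (fun a => (gSeq F).g.hom.app (op (U a)) (i a)) fun a b => by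
    rw [← app_rs, ← app_rs, eq_comm, ← sub_eq_zero, ← map_sub, ← hu', gSeq_g_f]
  exact ⟨delta F q, q, i, rfl, fun a => (hq a).symm, hu'⟩

theorem IsCls.eq_zero_iff (hU : iSup U = ⊤) {u : Fam2 F U} {x : CohTop.H F 1} (hx : IsCls F U u x) :
    x = 0 ↔ ∃ w : ∀ a, F.obj.obj (op (U a)), ∀ a b,
      u a b = rs F inf_le_right (w b) - rs F inf_le_left (w a) := by
  obtain ⟨q, i, rfl, hi, hu⟩ := hx
  constructor
  · intro h
    obtain ⟨d, hd⟩ := (delta_eq_zero F q).1 h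
    have hw : ∀ a, ∃ w, (gSeq F).f.hom.app (op (U a)) w = i a - rs _ le_top d := fun a =>
      gSeq_exact F _ _ (by rw [map_sub, hi, app_rs, hd, sub_self])
    choose w hw using hw
    refine ⟨w, fun a b => gSeq_f_injective F _ ?_⟩
    rw [map_sub, app_rs, app_rs, hw, hw, hu, map_sub, map_sub, rs_rs, rs_rs]
    abel
  · rintro ⟨w, hw⟩
    obtain ⟨d, hd⟩ := glue (gSeq F).X₂ U hU (fun a => i a - (gSeq F).f.hom.app (op (U a)) (w a))
      fun a b => by
        have h1 := hu a b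
        rw [hw, map_sub, app_rs, app_rs] at h1
        rw [map_sub, map_sub]
        exact sub_eq_sub_iff_sub_eq_sub.2 (by rw [← neg_sub, ← h1, neg_sub])
    refine (delta_eq_zero F q).2 ⟨d, eq_of_cover _ U hU _ _ fun a => ?_⟩
    rw [← app_rs, hd, map_sub, hi, gSeq_g_f, sub_zero]

theorem exists_rep (x : CohTop.H F 1) :
    ∃ (U : X → Opens X) (_ : iSup U = ⊤) (u : Fam2 F U), IsCocycle F U u ∧ IsCls F U u x := by
  obtain ⟨q, rfl⟩ := delta_surjective F x
  have h : ∀ p : X, ∃ (V : Opens X) (_ : p ∈ V) (i : (gSeq F).X₂.obj.obj (op V)),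
      (gSeq F).g.hom.app (op V) i = rs _ le_top q := fun p => by
    obtain ⟨V, f, ⟨i, hi⟩, hp⟩ := SiteBase.imageSieve_mem_of_shortExact (gSeq_shortExact F) q p trivial
    exact ⟨V, hp, i, hi⟩
  choose V hV i hi using h
  have hu : ∀ a b, ∃ u, (gSeq F).f.hom.app (op (V a ⊓ V b)) u =
      rs _ inf_le_right (i b) - rs _ inf_le_left (i a) := fun a b =>
    gSeq_exact F _ _ (by rw [map_sub, app_rs, app_rs, hi, hi, rs_rs, rs_rs, sub_self])
  choose u hu using hu
  refine ⟨V, top_le_iff.1 fun p _ => Opens.mem_iSup.2 ⟨p, hV p⟩, u, fun a b c W hab hbc hac => ?_,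
    q, i, rfl, hi, hu⟩
  refine gSeq_f_injective F W ?_
  rw [map_add, app_rs, app_rs, app_rs, hu, hu, hu, map_sub, map_sub, map_sub, rs_rs, rs_rs, rs_rs,
    rs_rs, rs_rs, rs_rs]
  abel

/-- The stalkwise map of Godement sheaves. -/
noncomputable def godementMap (φ : F ⟶ G) : QCoh.Ab.godement F ⟶ QCoh.Ab.godement G :=
  ⟨{ app := fun W => AddCommGrpCat.ofHom
      { toFun := fun s x => ((TopCat.Presheaf.stalkFunctor AddCommGrpCat.{u} x.1).map φ.hom).hom (s x)
        map_zero' := funext fun x => map_zero _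
        map_add' := fun _ _ => funext fun x => map_add _ _ _ }
     naturality := fun W W' i => rfl }⟩

theorem toGodement_naturality (φ : F ⟶ G) :
    QCoh.Ab.toGodement F ≫ godementMap φ = φ ≫ QCoh.Ab.toGodement G := by
  apply Sheaf.hom_ext
  ext W s
  exact funext fun x => TopCat.Presheaf.stalkFunctor_map_germ_apply W.unop x.1 x.2 φ.hom s

/-- The map of Godement sequences. -/
noncomputable def gSeqMap (φ : F ⟶ G) : gSeq F ⟶ gSeq G where
  τ₁ := φ
  τ₂ := godementMap φ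
  τ₃ := cokernel.map (QCoh.Ab.toGodement F) (QCoh.Ab.toGodement G) φ (godementMap φ) (toGodement_naturality φ)
  comm₁₂ := (toGodement_naturality φ).symm
  comm₂₃ := (cokernel.π_desc _ _ _).symm

theorem IsCls.map (φ : F ⟶ G) {u : Fam2 F U} {x : CohTop.H F 1} (hx : IsCls F U u x) :
    IsCls G U (fun a b => φ.hom.app (op (U a ⊓ U b)) (u a b)) (hmap φ 1 x) := by
  obtain ⟨q, i, rfl, hi, hu⟩ := hx
  refine ⟨(gSeqMap φ).τ₃.hom.app (op ⊤) q, fun a => (gSeqMap φ).τ₂.hom.app (op (U a)) (i a), ?_,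
    fun a => ?_, fun a b => ?_⟩
  · show bdry (gSeq_shortExact G) 0 ((h0Equiv _).symm _) = _
    have h1 : (h0Equiv (gSeq G).X₃).symm ((gSeqMap φ).τ₃.hom.app (op ⊤) q) =
        hmap (gSeqMap φ).τ₃ 0 ((h0Equiv (gSeq F).X₃).symm q) :=
      (h0Equiv _).injective (by rw [h0Equiv_hmap, AddEquiv.apply_symm_apply, AddEquiv.apply_symm_apply])
    rw [h1]
    show Ext.comp (Ext.comp _ (Ext.mk₀ (gSeqMap φ).τ₃) (add_zero 0)) (gSeq_shortExact G).extClass rfl =
      Ext.comp (Ext.comp _ (gSeq_shortExact F).extClass rfl) (Ext.mk₀ φ) (add_zero 1)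
    rw [Ext.comp_assoc_of_second_deg_zero, Ext.comp_assoc_of_third_deg_zero]
    congr 1
    exact (ShortComplex.ShortExact.extClass_naturality (gSeq_shortExact F) (gSeq_shortExact G)
      (gSeqMap φ)).symm
  · rw [← app_rs, ← hi]
    exact congr($((gSeqMap φ).comm₂₃).hom.app (op (U a)) (i a))
  · rw [← app_rs, ← app_rs, ← map_sub, ← hu]
    exact congr($((gSeqMap φ).comm₁₂).hom.app (op (U a ⊓ U b)) (u a b))

end Groth.Agent.PicfLib.Cech1
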