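import Groth.Agent.Para81.FlatPair
import Groth.Agent.Para81.Extend
import Groth.Agent.MiscTwoH99.DepthExt

/-!
# Extending invertible modules over a small closed subset descends along flat surjective morphisms
-/

set_option backward.isDefEq.respectTransparency false
set_option backward.isDefEq.respectTransparency.types false
set_option linter.style.haveILetI false

universe u

open CategoryTheory CategoryTheory.Limits AlgebraicGeometry TopologicalSpace Opposite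

namespace Groth.Agent.PicfLib.FlatExt

open Groth.Agent.AModX Groth.Agent.InvX Groth.Agent.Para81

variable {X X' : Scheme.{u}} (φ : X' ⟶ X) (V : X.Opens)

/-- The module pulled back over the open subscheme is the restriction of the inverse image of the direct image. -/
noncomputable def restrictIso (L : (V : Scheme.{u}).Modules) :
    (Scheme.Modules.pullback (φ ⁻¹ᵁ V).ι).obj
        ((Scheme.Modules.pullback φ).obj ((Scheme.Modules.pushforward V.ι).obj L)) ≅
      (Scheme.Modules.pullback (φ ∣_ V)).obj L :=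
  (Scheme.Modules.pullbackComp _ φ).app _ ≪≫
    (Scheme.Modules.pullbackCongr (morphismRestrict_ι φ V).symm).app _ ≪≫
    ((Scheme.Modules.pullbackComp _ _).app _).symm ≪≫
    (Scheme.Modules.pullback _).mapIso
      (((Scheme.Modules.restrictFunctorIsoPullback V.ι).app _).symm ≪≫ ParaFX.restrictPushforward V.ι L)

theorem exists_extension [IsLocallyNoetherian X] [IsLocallyNoetherian X'] [Flat φ]
    (hV : ∀ x : X, x ∉ V → 2 ≤ LocCoh.depth (X.presheaf.stalk x) (X.presheaf.stalk x))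
    (hφ : ∀ x : X, x ∉ V → ∃ x', φ x' = x)
    (L : (V : Scheme.{u}).Modules) (hL : PicF.IsInvertible L) (M' : X'.Modules) (hM' : PicF.IsInvertible M')
    (e : (Scheme.Modules.pullback (φ ⁻¹ᵁ V).ι).obj M' ≅ (Scheme.Modules.pullback (φ ∣_ V)).obj L) :
    ∃ M : X.Modules, PicF.IsInvertible M ∧ Nonempty ((Scheme.Modules.pullback V.ι).obj M ≅ L) := by
  let M := (Scheme.Modules.pushforward V.ι).obj L
  refine ⟨M, isInvertible_of_frames fun z => ?_,
    ⟨((Scheme.Modules.restrictFunctorIsoPullback V.ι).app _).symm ≪≫ ParaFX.restrictPushforward V.ι L⟩⟩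
  by_cases hz : z ∈ V
  · obtain ⟨O, hzO, e₀, he₀⟩ := exists_frame_pushforward V.ι hL z (by rw [Scheme.Opens.opensRange_ι]; exact hz)
    exact ⟨O, hzO, e₀, he₀⟩
  obtain ⟨x', rfl⟩ := hφ z hz
  obtain ⟨_, ⟨U, hU', rfl⟩, hzU, -⟩ :=
    X.isBasis_affineOpens.exists_subset_of_mem_open (Set.mem_univ (φ x')) isOpen_univ
  have hU : IsAffineOpen U := hU'
  haveI : IsNoetherianRing Γ(X, U) := IsLocallyNoetherian.component_noetherian ⟨U, hU⟩
  obtain ⟨O', hxO', σ₀, hσ₀⟩ := InvX.exists_frame hM' x'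
  obtain ⟨_, ⟨W', hW'', rfl⟩, hxW', hW'le⟩ := X'.isBasis_affineOpens.exists_subset_of_mem_open
    (show x' ∈ O' ⊓ φ ⁻¹ᵁ U from ⟨hxO', hzU⟩) (O' ⊓ φ ⁻¹ᵁ U).2
  have hW' : IsAffineOpen W' := hW''
  have hWU : W' ≤ φ ⁻¹ᵁ U := fun y hy => (hW'le hy).2
  letI := (φ.appLE U W' hWU).hom.toAlgebra
  let A := Γ(X, U)
  let B := Γ(X', W')
  have hπ : spMap A B ≫ hU.fromSpec = hW'.fromSpec ≫ φ :=
    IsAffineOpen.SpecMap_appLE_fromSpec φ hU hW' hWU
  haveI : Module.Flat A B := RingHom.flat_algebraMap_iff.1 (φ.flat_appLE hU hW' hWU)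
  haveI : Flat (spMap A B ≫ hU.fromSpec) := by rw [hπ]; infer_instance
  let P : X'.Modules := (Scheme.Modules.pullback φ).obj M
  -- frames of the descended module on basic opens inside the open
  let W : (Spec A).Opens := hU.fromSpec ⁻¹ᵁ V
  let M₀ := M.restrict hU.fromSpec
  obtain ⟨ι, _, f, hfW, hf, hcov⟩ := exists_finite_cover W (fun f => ∃ e : Γ(M₀, bo f), IsFrame e)
    fun p hp => by
      obtain ⟨O, hpO, e₀, he₀⟩ := exists_frame_pushforward V.ι hL (hU.fromSpec p)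
        (by rw [Scheme.Opens.opensRange_ι]; exact hp)
      obtain ⟨f, hpf, hf⟩ := exists_bo (show p ∈ W ⊓ hU.fromSpec ⁻¹ᵁ O from ⟨hp, hpO⟩)
      exact ⟨f, hpf, hf.trans inf_le_left, _,
        (InvUfdLib.isFrame_restrict hU.fromSpec (he₀.res (hU.fromSpec.image_preimage_le O))).res
          (hf.trans inf_le_right)⟩
  choose e₁ he₁ using hf
  -- a frame upstairs
  obtain ⟨q, hq⟩ : x' ∈ Set.range hW'.fromSpec := by rw [hW'.range_fromSpec]; exact hxW'
  obtain ⟨σ₁, hσ₁⟩ : ∃ s : Γ(P, (φ ⁻¹ᵁ V).ι ''ᵁ ((φ ⁻¹ᵁ V).ι ⁻¹ᵁ O')), IsFrame s := by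
    let j := (φ ⁻¹ᵁ V).ι
    let i : M'.restrict j ≅ P.restrict j :=
      (Scheme.Modules.restrictFunctorIsoPullback j).app M' ≪≫ e ≪≫ (restrictIso φ V L).symm ≪≫
        ((Scheme.Modules.restrictFunctorIsoPullback j).app P).symm
    exact ⟨_, InvUfdLib.isFrame_of_restrict j
      (InvX.IsFrame.map_iso i (InvUfdLib.isFrame_restrict j (hσ₀.res (j.image_preimage_le O'))))⟩
  have hle : spMap A B ⁻¹ᵁ W ≤ hW'.fromSpec ⁻¹ᵁ ((φ ⁻¹ᵁ V).ι ''ᵁ ((φ ⁻¹ᵁ V).ι ⁻¹ᵁ O')) := fun p hp => by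
    have h1 : φ (hW'.fromSpec p) ∈ V := by
      have := congr($hπ p)
      exact (show hU.fromSpec (spMap A B p) = φ (hW'.fromSpec p) from this) ▸ hp
    exact ⟨⟨hW'.fromSpec p, h1⟩,
      (hW'le (show hW'.fromSpec p ∈ (W' : Set X') by rw [← hW'.range_fromSpec]; exact ⟨p, rfl⟩)).1, rfl⟩
  obtain ⟨σ, hσ⟩ : ∃ σ : Γ((Scheme.Modules.pullback (spMap A B)).obj M₀, spMap A B ⁻¹ᵁ W), IsFrame σ :=
    ⟨_, InvX.IsFrame.map_iso
      ((Scheme.Modules.pullbackComp hW'.fromSpec φ).app M ≪≫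
        (Scheme.Modules.pullbackCongr hπ.symm).app M ≪≫
        ((Scheme.Modules.pullbackComp (spMap A B) hU.fromSpec).app M).symm ≪≫
        (Scheme.Modules.pullback (spMap A B)).mapIso
          ((Scheme.Modules.restrictFunctorIsoPullback hU.fromSpec).app M).symm)
      ((isFrame_pullElt hW'.fromSpec hσ₁).res hle)⟩
  have hfun : Function.Bijective (algebraMap B Γ(Spec B, spMap A B ⁻¹ᵁ W)) := by
    rw [bijective_algebraMap_iff]
    have hd : ∀ p : Spec B, p ∉ spMap A B ⁻¹ᵁ W →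
        (2 : ℕ∞) ≤ LocCoh.depth ((Spec B).presheaf.stalk p) ((Spec B).presheaf.stalk p) := fun p hp =>
      (hV ((spMap A B ≫ hU.fromSpec) p) hp).trans
        (MiscTwoH99.depth_stalk_le_of_flat (spMap A B ≫ hU.fromSpec) p)
    haveI : IsNoetherianRing B := IsLocallyNoetherian.component_noetherian ⟨W', hW'⟩
    have gen : ∀ (O₁ : (Spec B).Opens) (hO : O₁ ≤ ⊤), O₁ = ⊤ ⊓ spMap A B ⁻¹ᵁ W →
        Function.Bijective ((Spec B).presheaf.map (homOfLE hO).op) := by
      rintro _ _ rfl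
      exact Hartogs.restrict_bijective (spMap A B ⁻¹ᵁ W) hd ⊤
    exact gen _ le_top (top_inf_eq _).symm
  obtain ⟨s, hs, m, hm⟩ := frame_near_flat f M₀ W hfW hcov q hfun e₁ he₁ σ hσ
  -- extend over the closed subset
  let O : X.Opens := hU.fromSpec ''ᵁ bo s
  have hzO : φ x' ∈ O := ⟨spMap A B q, hs, by
    show (spMap A B ≫ hU.fromSpec) q = φ x'
    rw [hπ, ← hq]; rfl⟩
  have hle' : O ⊓ V ≤ hU.fromSpec ''ᵁ (W ⊓ bo s) := by
    rintro _ ⟨⟨p, hp, rfl⟩, hpV⟩
    exact ⟨p, ⟨hpV, hp⟩, rfl⟩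
  obtain ⟨e₂, he₂⟩ := exists_frame_of_bij (O := O)
    (fun O₁ _ => (ConcreteCategory.isIso_iff_bijective _).1
      (ParaFX.sectBij_pushforward V.ι L O₁ _ inf_le_left (by rw [Scheme.Opens.opensRange_ι])))
    (Hartogs.restrict_bijective V hV)
    ((InvUfdLib.isFrame_of_restrict hU.fromSpec hm).res hle')
  exact ⟨O, hzO, e₂, he₂⟩

theorem exists_extension_iff [IsLocallyNoetherian X] [IsLocallyNoetherian X'] [Flat φ] [Surjective φ]
    (hV : ∀ x : X, x ∉ V → 2 ≤ LocCoh.depth (X.presheaf.stalk x) (X.presheaf.stalk x))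
    (L : (V : Scheme.{u}).Modules) (hL : PicF.IsInvertible L) :
    (∃ M : X.Modules, PicF.IsInvertible M ∧ Nonempty ((Scheme.Modules.pullback V.ι).obj M ≅ L)) ↔
      (∃ M' : X'.Modules, PicF.IsInvertible M' ∧
        Nonempty ((Scheme.Modules.pullback (φ ⁻¹ᵁ V).ι).obj M' ≅ (Scheme.Modules.pullback (φ ∣_ V)).obj L)) := by
  constructor
  · rintro ⟨M, hM, ⟨e⟩⟩
    exact ⟨_, PicClLib.isInvertible_pullback φ hM,
      ⟨(Scheme.Modules.pullbackComp _ φ).app M ≪≫
        (Scheme.Modules.pullbackCongr (morphismRestrict_ι φ V).symm).app M ≪≫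
        ((Scheme.Modules.pullbackComp _ _).app M).symm ≪≫ (Scheme.Modules.pullback _).mapIso e⟩⟩
  rintro ⟨M', hM', ⟨e⟩⟩
  exact exists_extension φ V hV (fun z _ => φ.surjective z) L hL M' hM' e

end Groth.Agent.PicfLib.FlatExt
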