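import Groth.Agent.H23.SeesawGlobal
import Groth.Agent.H23.RigidApply
import Groth.Agent.S16759
import Mathlib.AlgebraicGeometry.AlgClosed.Basic
import Mathlib.FieldTheory.IsAlgClosed.Basic

/-!
# Where the global functions of the fibres are the constants

For a proper flat surjective morphism this is an open condition; on a base of finite type over an algebraically
closed field it holds everywhere as soon as the fibres over closed points are integral.
-/

universe u

open CategoryTheory CategoryTheory.Limits AlgebraicGeometry TopologicalSpace Opposite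

namespace Groth.Agent.PicfLib.H0Locus

set_option backward.isDefEq.respectTransparency false
set_option backward.isDefEq.respectTransparency.types false
set_option linter.style.haveILetI false

open Groth.Agent.H23 Groth.Agent.InvX

theorem bijective_appTop_of_integral {K : Type u} [Field K] [IsAlgClosed K] {V : Scheme.{u}}
    (v : V ⟶ Spec (CommRingCat.of K)) [IsProper v] [IsIntegral V] : Function.Bijective v.appTop := by
  let φ : CommRingCat.of K ⟶ Γ(V, ⊤) := (Scheme.ΓSpecIso _).inv ≫ v.appTop
  have hφ : v.appTop = (Scheme.ΓSpecIso _).hom ≫ φ := by simp [φ]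
  have hfin : φ.hom.Finite :=
    (finite_appTop_of_universallyClosed K v).comp (RingHom.Finite.of_surjective _
      (ConcreteCategory.bijective_of_isIso (Scheme.ΓSpecIso (CommRingCat.of K)).inv).2)
  haveI : IsDomain Γ(V, ⊤) := inferInstance
  algebraize [φ.hom]
  have hb : Function.Bijective φ.hom :=
    IsAlgClosed.algebraMap_bijective_of_isIntegral (k := K) (K := Γ(V, ⊤))
  rw [hφ]
  exact hb.comp (ConcreteCategory.bijective_of_isIso (Scheme.ΓSpecIso (CommRingCat.of K)).hom)

section Chart

variable {A : Type u} [CommRing A] {X : Scheme.{u}} [X.Over (Spec (CommRingCat.of A))]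
  [IsNoetherianRing A] [IsProper (X ↘ Spec (CommRingCat.of A))] [Flat (X ↘ Spec (CommRingCat.of A))]

local notation "π" => (X ↘ Spec (CommRingCat.of A))

theorem fibreTriv_one (x : PrimeSpectrum A) : Seesaw.FibreTriv (Coh.structureModule X) x :=
  TrivBasic.Triv.pullback _ ⟨Iso.refl _⟩

theorem isOpen_fibreH0 (hne : ∀ x : PrimeSpectrum A, Nonempty (Seesaw.fibreOf A X x)) :
    IsOpen {x : PrimeSpectrum A | Seesaw.FibreH0 X x} := by
  obtain ⟨Q, _, e, hQ⟩ := Seesaw.exists_rep (A := A) (Coh.structureModule X) InvX.isInvertible_structureModule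
  have key : ∀ x : PrimeSpectrum A, Seesaw.FibreH0 X x ↔ FlatCxLib.fibreRank Q x < 2 := by
    intro x
    refine ⟨fun h0 => ?_, fun hr => ?_⟩
    · obtain ⟨h1, h2⟩ := Seesaw.line_of_fibreTriv hQ x h0 (fibreTriv_one x)
      rw [SeesawMod.fibreRank_eq_one x h1 h2]
      norm_num
    · let κ := x.asIdeal.ResidueField
      let p := pullback.snd π (Seesaw.specAlg A κ)
      obtain ⟨eB, he1, -⟩ := hQ κ _ _ _ (IsPullback.of_hasPullback π _)
      obtain ⟨s₁, hs₁⟩ := (fibreTriv_one (X := X) x).exists_frame
      haveI : Nonempty (⊤ : (Seesaw.fibreOf A X x).Opens) := ⟨⟨(hne x).some, trivial⟩⟩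
      haveI : Nontrivial Γ(Seesaw.fibreOf A X x, ⊤) := inferInstance
      haveI : Nontrivial (Coh.Γtop (Seesaw.fibreOf A X x)) := this
      have htg : Function.Bijective (Coh.toGlobal p) := by
        refine ⟨RingHom.injective (Coh.toGlobal p : κ →+* Γ(Seesaw.fibreOf A X x, ⊤)), fun r => ?_⟩
        have hdim : Module.finrank κ (Q →ₗ[A] κ) ≤ 1 := by
          rw [(SeesawMod.dualEquiv κ).finrank_eq, Subspace.dual_finrank_eq]
          exact Nat.lt_succ_iff.1 hr
        haveI : Module.Finite κ (Q →ₗ[A] κ) := Module.Finite.equiv (SeesawMod.dualEquiv (Q := Q) κ).symm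
        obtain ⟨g, hg⟩ := eB.surjective s₁
        have hg0 : g ≠ 0 := fun h => by
          rw [h, map_zero] at hg
          exact zero_ne_one (hs₁.coord_unique le_rfl (r := 0) (r' := 1) (by simp [← hg]))
        obtain ⟨v, hv⟩ := finrank_le_one_iff.1 hdim
        obtain ⟨a, ha⟩ := hv g
        obtain ⟨g', hg'⟩ := eB.surjective ((show Γ(Seesaw.fibreOf A X x, ⊤) from r) • s₁)
        obtain ⟨b, hb⟩ := hv g'
        have ha0 : a ≠ 0 := fun h => hg0 (by rw [← ha, h, zero_smul])
        refine ⟨b * a⁻¹, hs₁.coord_unique le_rfl ?_⟩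
        rw [AModX.res_self, ← hg', ← hb, show b • v = (b * a⁻¹) • g by rw [← ha, smul_smul,
          mul_assoc, inv_mul_cancel₀ ha0, mul_one], ← hg]
        exact (he1 (b * a⁻¹) g).symm
      have := htg.comp (ConcreteCategory.bijective_of_isIso (Scheme.ΓSpecIso (CommRingCat.of κ)).hom)
      refine (congrArg Function.Bijective (funext fun z => ?_)).mp this
      show p.appTop ((Scheme.ΓSpecIso (CommRingCat.of κ)).inv ((Scheme.ΓSpecIso (CommRingCat.of κ)).hom z)) = _
      rw [Iso.hom_inv_id_apply]
  rw [show {x : PrimeSpectrum A | Seesaw.FibreH0 X x} = FlatCxLib.fibreRank Q ⁻¹' Set.Iio 2 from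
    Set.ext key]
  exact (FlatCxLib.upperSemicontinuous_fibreRank (A := A) Q).isOpen_preimage 2

end Chart

variable {X Y : Scheme.{u}} (f : X ⟶ Y)

theorem constFibres_iff_fieldH0 [QuasiCompact f] [QuasiSeparated f] (y : Y) :
    Function.Bijective (pullback.snd f (Y.fromSpecResidueField y)).appTop ↔ SeesawGlobal.FieldH0 f y := by
  refine ⟨fun h => ?_, fun h => h _ _ (Y.fromSpecResidueField_apply _ _)⟩
  intro K _ k hk
  subst hk
  let φ := Scheme.descResidueField (Scheme.stalkClosedPointTo k)
  let a := Y.fromSpecResidueField (k (IsLocalRing.closedPoint K))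
  have hfac : Spec.map φ ≫ a = k := Scheme.descResidueField_stalkClosedPointTo_fromSpecResidueField K Y k
  let e : pullback f k ≅ pullback (pullback.snd f a) (Spec.map φ) :=
    pullback.congrHom rfl hfac.symm ≪≫ (pullbackLeftPullbackSndIso f a (Spec.map φ)).symm
  have he : pullback.snd f k = e.hom ≫ pullback.snd (pullback.snd f a) (Spec.map φ) := by
    simp [e, pullback.congrHom, pullback.map, pullback.lift_snd, pullbackLeftPullbackSndIso_inv_snd_snd]
  have hv := Rigid.bijective_app_snd_of_bijective (pullback.snd f a) (Spec.map φ) h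
  rw [he, Scheme.Hom.comp_appTop]
  have : IsIso (e.hom.app ⊤) := inferInstance
  exact (@ConcreteCategory.bijective_of_isIso _ _ _ _ _ _ _ _ e.hom.appTop this).comp (hv ⊤)

theorem fibre_ne (hsurj : Function.Surjective f.base) {A : Type u} [CommRing A]
    (g : Spec (CommRingCat.of A) ⟶ Y) (x : PrimeSpectrum A) :
    Nonempty ↥(Seesaw.fibreOf A (SeesawGlobal.chart f A g) x) := by
  obtain ⟨z, hz⟩ := hsurj (g.base x)
  obtain ⟨w, -, hw⟩ := Scheme.Pullback.exists_preimage_pullback (f := f) (g := g) z x hz
  obtain ⟨t, -⟩ := Seesaw.exists_fibre_point (A := A) (X := SeesawGlobal.chart f A g) x w hw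
  exact ⟨t⟩

theorem fieldH0_of_chart [QuasiCompact f] [QuasiSeparated f] {A : Type u} [CommRing A]
    (g : Spec (CommRingCat.of A) ⟶ Y) [IsOpenImmersion g] {x : ↥(Spec (CommRingCat.of A))}
    (h : Seesaw.FibreH0 (SeesawGlobal.chart f A g) x) : SeesawGlobal.FieldH0 f (g x) := by
  intro K _ k hk
  have hr : Set.range k ⊆ Set.range g := by
    rintro _ ⟨s, rfl⟩
    rw [Subsingleton.elim s (IsLocalRing.closedPoint K), hk]
    exact ⟨x, rfl⟩
  let k' := IsOpenImmersion.lift g k hr
  have hk' : k' (IsLocalRing.closedPoint K) = x := by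
    refine g.isOpenEmbedding.injective ?_
    rw [← hk]
    exact congr($(IsOpenImmersion.lift_fac g k hr) (IsLocalRing.closedPoint K))
  obtain ⟨α, hα⟩ := Spec.map_surjective k'
  have hker : ∀ a : A, a ∈ x.asIdeal ↔ α.hom a = 0 := fun a => by
    rw [← hk', ← hα]
    show a ∈ Ideal.comap α.hom (IsLocalRing.closedPoint K).asIdeal ↔ _
    rw [Ideal.mem_comap, show (IsLocalRing.closedPoint K).asIdeal = ⊥ from IsLocalRing.maximalIdeal_eq_bot]
    rfl
  let ψ := Ideal.ResidueField.lift x.asIdeal α.hom (fun a ha => (hker a).1 ha) fun a ha =>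
    Ne.isUnit fun h0 => ha ((hker a).2 h0)
  have hψ : CommRingCat.ofHom (algebraMap A x.asIdeal.ResidueField) ≫ CommRingCat.ofHom ψ = α :=
    CommRingCat.hom_ext (RingHom.ext fun a => Ideal.ResidueField.lift_algebraMap x.asIdeal α.hom (fun a ha => (hker a).1 ha)
      (fun a ha => Ne.isUnit fun h0 => ha ((hker a).2 h0)) a)
  let s := Seesaw.specAlg A x.asIdeal.ResidueField
  have hfac : Spec.map (CommRingCat.ofHom ψ) ≫ s ≫ g = k := by
    rw [← Category.assoc, show s = Seesaw.specAlg A x.asIdeal.ResidueField from rfl, Seesaw.specAlg,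
      ← Spec.map_comp, hψ, hα]
    exact IsOpenImmersion.lift_fac g k hr
  let v : pullback (pullback.snd f g) s ⟶ Spec (CommRingCat.of x.asIdeal.ResidueField) := pullback.snd _ _
  let t := Spec.map (CommRingCat.ofHom ψ)
  have hv := Rigid.bijective_app_snd_of_bijective v t (show Function.Bijective v.appTop from h)
  let e : pullback f k ≅ pullback v t :=
    pullback.congrHom rfl hfac.symm ≪≫ (pullbackLeftPullbackSndIso f (s ≫ g) t).symm ≪≫
      asIso (pullback.map (pullback.snd f (s ≫ g)) t v t
        (pullbackLeftPullbackSndIso f g s).inv (𝟙 _) (𝟙 _) (by simp [v]) (by simp))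
  have he : pullback.snd f k = e.hom ≫ pullback.snd v t := by
    simp [e, pullback.congrHom, pullback.map, pullbackLeftPullbackSndIso_inv_snd_snd]
    exact (pullback.lift_snd _ _ _).symm
  rw [he, Scheme.Hom.comp_appTop]
  have : IsIso (e.hom.app ⊤) := inferInstance
  exact (@ConcreteCategory.bijective_of_isIso _ _ _ _ _ _ _ _ e.hom.appTop this).comp (hv ⊤)

theorem isOpen_fieldH0 [IsProper f] [Flat f] [IsLocallyNoetherian Y] (hsurj : Function.Surjective f.base) :
    IsOpen {y : Y | SeesawGlobal.FieldH0 f y} := by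
  rw [isOpen_iff_mem_nhds]
  intro y hy
  obtain ⟨A, _, _, g, _, x, rfl⟩ := SeesawGlobal.exists_chart y
  have ho := isOpen_fibreH0 (A := A) (X := SeesawGlobal.chart f A g) (fibre_ne f hsurj g)
  refine Filter.mem_of_superset ((g.isOpenEmbedding.isOpenMap _ ho).mem_nhds
    ⟨x, SeesawGlobal.fibreH0_chart f A g hy, rfl⟩) ?_
  rintro _ ⟨z, hz, rfl⟩
  exact fieldH0_of_chart f g hz

theorem fieldH0_of_closed_integral {k : Type u} [Field k] [IsAlgClosed k]
    (g : Y ⟶ Spec (CommRingCat.of k)) [LocallyOfFiniteType g] [IsProper f] [Flat f]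
    (hsurj : Function.Surjective f.base)
    (hint : ∀ y : Y, IsClosed ({y} : Set Y) → IsIntegral (f.fiber y)) (y : Y) :
    SeesawGlobal.FieldH0 f y := by
  haveI : IsLocallyNoetherian Y := LocallyOfFiniteType.isLocallyNoetherian g
  haveI : JacobsonSpace Y := LocallyOfFiniteType.jacobsonSpace g
  by_contra hy
  have hne : ({y : Y | SeesawGlobal.FieldH0 f y}ᶜ).Nonempty := ⟨y, hy⟩
  obtain ⟨z, hz, hzc⟩ := nonempty_inter_closedPoints hne
    (isOpen_fieldH0 f hsurj).isClosed_compl.isLocallyClosed
  apply hz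
  refine (constFibres_iff_fieldH0 f z).1 ?_
  haveI : IsAlgClosed (Y.residueField z) :=
    IsAlgClosed.of_ringEquiv k _ (residueFieldIsoBase g z hzc).symm.commRingCatIsoToRingEquiv
  haveI : IsAlgClosed (IsLocalRing.ResidueField (Y.presheaf.stalk z)) := ‹_›
  haveI : IsIntegral (pullback f (Y.fromSpecResidueField z)) := hint z hzc
  exact bijective_appTop_of_integral _

/-- Translation into the dimension of the global functions of the fibres. -/
theorem finrank_eq_one_of_fieldH0 (h : ∀ y, SeesawGlobal.FieldH0 f y) (y : Y) :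
    Module.finrank (Y.residueField y) Γ(f.fiber y, ⊤) = 1 := by
  have h0 : Function.Bijective (f.fiberToSpecResidueField y).appTop :=
    h y (Y.residueField y) (Y.fromSpecResidueField y) (Y.fromSpecResidueField_apply _ _)
  have hb : Function.Bijective (algebraMap (Y.residueField y) Γ(f.fiber y, ⊤)) := by
    have h2 := h0.comp (ConcreteCategory.bijective_of_isIso (Scheme.ΓSpecIso (Y.residueField y)).inv)
    convert h2 using 1
    rfl
  exact (LinearEquiv.ofBijective (Algebra.linearMap (Y.residueField y) Γ(f.fiber y, ⊤)) hb).finrank_eq.symm.trans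
    (Module.finrank_self _)

end Groth.Agent.PicfLib.H0Locus
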