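import Groth.Agent.PicfLib.Cech1
import Groth.Agent.PicfLib.Trans
import Groth.Agent.H23.PicMul
import Groth.Agent.H23.CocycleMod
import Groth.Agent.S10964
import Groth.Prelude.Def_UnitsSh

/-!
# The Picard group as first cohomology of the units

Stated relative to a homeomorphism `i : Z ⟶ X` of schemes: `H¹(X, i_*O_Z^×)` is the Picard group of `Z`.
-/

universe u

open CategoryTheory AlgebraicGeometry TopologicalSpace Opposite

namespace Groth.Agent.PicfLib.H1Pic

set_option backward.isDefEq.respectTransparency false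
set_option backward.isDefEq.respectTransparency.types false
set_option linter.style.haveILetI false

open Groth.Agent.AModX Groth.Agent.InvX

variable {Z X : Scheme.{u}} (i : Z ⟶ X)

/-- The units of `Z` as a sheaf on `X`. -/
noncomputable abbrev units : CohTop.Ab X.toTopCat := (CohTop.push i.base).obj (UnitsSh.unitsAb Z)

/-- The function underlying a section. -/
noncomputable def val {V : X.Opens} (s : (units i).obj.obj (op V)) : Γ(Z, i ⁻¹ᵁ V) :=
  Units.val (α := Γ(Z, i ⁻¹ᵁ V)) (UnitsSh.unitOfSect (O := Z.sheaf.obj) (U := op (i ⁻¹ᵁ V)) s)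

theorem val_add {V : X.Opens} (s t : (units i).obj.obj (op V)) : val i (s + t) = val i s * val i t := rfl

theorem val_zero {V : X.Opens} : val i (0 : (units i).obj.obj (op V)) = 1 := rfl

theorem isUnit_val {V : X.Opens} (s : (units i).obj.obj (op V)) : IsUnit (val i s) := Units.isUnit _

theorem val_rs {V W : X.Opens} (h : W ≤ V) (s : (units i).obj.obj (op V)) :
    val i (Cech1.rs (units i) h s) = resR (X := Z) (i.preimage_mono h) (val i s) := rfl

theorem val_injective {V : X.Opens} : Function.Injective (val i (V := V)) := fun s t h =>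
  (Additive.toMul (α := (Γ(Z, i ⁻¹ᵁ V))ˣ)).injective (Units.ext h)

/-- A section from a unit. -/
noncomputable def mk {V : X.Opens} {r : Γ(Z, i ⁻¹ᵁ V)} (h : IsUnit r) : (units i).obj.obj (op V) :=
  UnitsSh.sectOfUnit (O := Z.sheaf.obj) (U := op (i ⁻¹ᵁ V)) h.unit

theorem val_mk {V : X.Opens} {r : Γ(Z, i ⁻¹ᵁ V)} (h : IsUnit r) : val i (mk i h) = r := h.unit_spec

variable {ι : Type u} (U : ι → X.Opens)

/-- `L` is glued by the cochain `u`. -/
def IsLB (u : Cech1.Fam2 (units i) U) (L : Z.Modules) : Prop :=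
  ∃ e : ∀ a, Γ(L, i ⁻¹ᵁ U a), (∀ a, IsFrame (e a)) ∧
    ∀ a b, res L (i.preimage_mono inf_le_left) (e a) =
      val i (u a b) • res L (i.preimage_mono (inf_le_right : U a ⊓ U b ≤ U b)) (e b)

variable {i U}

theorem preimage_cover (hU : iSup U = ⊤) : iSup (fun a => i ⁻¹ᵁ U a) = ⊤ :=
  top_le_iff.1 fun z _ => by
    obtain ⟨a, ha⟩ := Opens.mem_iSup.1 (hU.ge (trivial : i z ∈ (⊤ : X.Opens)))
    exact Opens.mem_iSup.2 ⟨a, ha⟩

theorem IsLB.isInvertible (hU : iSup U = ⊤) {u : Cech1.Fam2 (units i) U} {L : Z.Modules}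
    (h : IsLB i U u L) : PicF.IsInvertible L := by
  obtain ⟨e, he, -⟩ := h
  refine InvX.isInvertible_of_frames fun z => ?_
  obtain ⟨a, ha⟩ := Opens.mem_iSup.1 ((preimage_cover (i := i) hU).ge (trivial : z ∈ (⊤ : Z.Opens)))
  exact ⟨_, ha, e a, he a⟩

theorem IsLB.iso {u : Cech1.Fam2 (units i) U} {L L' : Z.Modules} (φ : L ≅ L') (h : IsLB i U u L) :
    IsLB i U u L' := by
  obtain ⟨e, he, hu⟩ := h
  refine ⟨fun a => φ.hom.app _ (e a), fun a => (he a).map_iso φ, fun a b => ?_⟩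
  rw [← app_res, ← app_res, hu, Scheme.Modules.Hom.app_smul]

theorem exists_isLB (hU : iSup U = ⊤) (u : Cech1.Fam2 (units i) U) (hu : Cech1.IsCocycle (units i) U u) :
    ∃ L, IsLB i U u L := by
  let t : H23.CocycleMod.Cocycle (fun a => i ⁻¹ᵁ U a) :=
    { g := fun a b => (show (Γ(Z, i ⁻¹ᵁ (U a ⊓ U b)))ˣ from UnitsSh.unitOfSect (O := Z.sheaf.obj) (U := op (i ⁻¹ᵁ (U a ⊓ U b))) (u a b))
      trans := fun a b c W ha hb hc => by
        show resR (le_inf ha hc) (val i (u a c)) =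
          resR (le_inf hb hc) (val i (u b c)) * resR (le_inf ha hb) (val i (u a b))
        let V : X.Opens := U a ⊓ U b ⊓ U c
        have h := congrArg (val i) (hu a b c V inf_le_left (inf_le_inf_right _ inf_le_right)
          (inf_le_inf_right _ inf_le_left))
        rw [val_add, val_rs, val_rs, val_rs] at h
        have hW : W ≤ i ⁻¹ᵁ V := le_inf (le_inf ha hb) hc
        have h2 := congrArg (resR (X := Z) hW) h
        rw [map_mul, resR_resR, resR_resR, resR_resR] at h2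
        exact h2.trans (mul_comm _ _) }
  exact ⟨H23.CocycleMod.mod t, H23.CocycleMod.frame t, H23.CocycleMod.isFrame_frame t,
    fun a b => H23.CocycleMod.res_frame t a b⟩

theorem IsLB.refine' {κ : Type u} {V : κ → X.Opens} (ρ : κ → ι) (hV : ∀ c, V c ≤ U (ρ c))
    {u : Cech1.Fam2 (units i) U} {L : Z.Modules} (h : IsLB i U u L) :
    IsLB i V (fun c d => Cech1.rs (units i) (inf_le_inf (hV c) (hV d)) (u (ρ c) (ρ d))) L := by
  obtain ⟨e, he, hu⟩ := h
  refine ⟨fun c => res L (i.preimage_mono (hV c)) (e (ρ c)), fun c => (he _).res _, fun c d => ?_⟩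
  have h1 := congrArg (res L (i.preimage_mono (inf_le_inf (hV c) (hV d)))) (hu (ρ c) (ρ d))
  rw [res_smul, res_res, res_res] at h1
  rw [res_res, res_res, val_rs]
  exact h1

theorem IsLB.tensor {u v : Cech1.Fam2 (units i) U} {L M : Z.Modules} (h : IsLB i U u L) (h' : IsLB i U v M) :
    IsLB i U (fun a b => u a b + v a b) (CohB1.tensorMod L M) := by
  obtain ⟨e, he, hu⟩ := h
  obtain ⟨n, hn, hv⟩ := h'
  refine ⟨fun a => tmul (e a) (n a), fun a => isFrame_tmul (he a) (hn a), fun a b => ?_⟩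
  rw [res_tmul, res_tmul, hu, hv, tmul_smul_left, tmul_smul_right, ← mul_smul, val_add]

theorem IsLB.iso_of_coboundary (hU : iSup U = ⊤) {u v : Cech1.Fam2 (units i) U} {L M : Z.Modules}
    (h : IsLB i U u L) (h' : IsLB i U v M) (w : ∀ a, (units i).obj.obj (op (U a)))
    (hw : ∀ a b, u a b + Cech1.rs _ inf_le_right (w b) = v a b + Cech1.rs _ inf_le_left (w a)) :
    Nonempty (L ≅ M) := by
  obtain ⟨e, he, hu⟩ := h
  obtain ⟨n, hn, hv⟩ := h'
  refine (S10964.result Z (fun a => i ⁻¹ᵁ U a) (preimage_cover (i := i) hU) L M e n he hn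
    (fun a b => val i (u a b)) (fun a b => val i (v a b)) hu hv).2
    ⟨fun a => (isUnit_val i (w a)).unit, fun a b => ?_⟩
  have h1 := congrArg (val i) (hw a b)
  rw [val_add, val_add, val_rs, val_rs] at h1
  show val i (v a b) * resR (X := Z) (i.preimage_mono (inf_le_left : U a ⊓ U b ≤ U a)) (val i (w a)) =
    resR (X := Z) (i.preimage_mono (inf_le_right : U a ⊓ U b ≤ U b)) (val i (w b)) * val i (u a b)
  rw [← h1, mul_comm]

theorem coboundary_of_trivial {u : Cech1.Fam2 (units i) U}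
    (h : IsLB i U u (Coh.structureModule Z)) :
    ∃ w : ∀ a, (units i).obj.obj (op (U a)), ∀ a b,
      u a b = Cech1.rs _ inf_le_right (w b) - Cech1.rs _ inf_le_left (w a) := by
  obtain ⟨e, he, hu⟩ := h
  have hc : ∀ a, IsUnit (show Γ(Z, i ⁻¹ᵁ U a) from e a) := fun a =>
    Trans.isUnit_coord (isFrame_one (X := Z) (i ⁻¹ᵁ U a)) (he a) (mul_one (show Γ(Z, i ⁻¹ᵁ U a) from e a)).symm
  refine ⟨fun a => -mk i (hc a), fun a b => ?_⟩
  rw [map_neg, map_neg, sub_neg_eq_add, neg_add_eq_sub, eq_sub_iff_add_eq]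
  refine val_injective i ?_
  rw [val_add, val_rs, val_rs, val_mk, val_mk]
  exact (hu a b).symm

/-- `c` is the class attached to `x`. -/
def Rel (i : Z ⟶ X) (x : CohTop.H (units i) 1) (c : PicF.Cl Z) : Prop :=
  ∃ (ι : Type u) (U : ι → X.Opens) (_ : iSup U = ⊤) (u : Cech1.Fam2 (units i) U) (L : Z.Modules),
    Cech1.IsCls (units i) U u x ∧ IsLB i U u L ∧ PicF.cl L = c

theorem exists_rel (x : CohTop.H (units i) 1) : ∃ c, Rel i x c := by
  obtain ⟨U, hU, u, hu, hx⟩ := Cech1.exists_rep x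
  obtain ⟨L, hL⟩ := exists_isLB hU u hu
  exact ⟨_, _, U, hU, u, L, hx, hL, rfl⟩

theorem Rel.isInvertibleCl {x : CohTop.H (units i) 1} {c : PicF.Cl Z} (h : Rel i x c) :
    PicF.IsInvertibleCl c := by
  obtain ⟨ι, U, hU, u, L, -, hL, rfl⟩ := h
  exact ⟨L, rfl, hL.isInvertible hU⟩

theorem cover_inf {κ : Type u} {V : κ → X.Opens} (hU : iSup U = ⊤) (hV : iSup V = ⊤) :
    iSup (fun p : ι × κ => U p.1 ⊓ V p.2) = ⊤ :=
  top_le_iff.1 fun z _ => by
    obtain ⟨a, ha⟩ := Opens.mem_iSup.1 (hU.ge (trivial : z ∈ (⊤ : X.Opens)))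
    obtain ⟨b, hb⟩ := Opens.mem_iSup.1 (hV.ge (trivial : z ∈ (⊤ : X.Opens)))
    exact Opens.mem_iSup.2 ⟨(a, b), ha, hb⟩

theorem Rel.unique {x : CohTop.H (units i) 1} {c d : PicF.Cl Z} (h : Rel i x c) (h' : Rel i x d) :
    c = d := by
  obtain ⟨ι, U, hU, u, L, hx, hL, rfl⟩ := h
  obtain ⟨κ, V, hV, v, M, hy, hM, rfl⟩ := h'
  have hx' := hx.refine' (V := fun p : ι × κ => U p.1 ⊓ V p.2) Prod.fst fun _ => inf_le_left
  have hy' := hy.refine' (V := fun p : ι × κ => U p.1 ⊓ V p.2) Prod.snd fun _ => inf_le_right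
  have hL' := hL.refine' (V := fun p : ι × κ => U p.1 ⊓ V p.2) Prod.fst fun _ => inf_le_left
  have hM' := hM.refine' (V := fun p : ι × κ => U p.1 ⊓ V p.2) Prod.snd fun _ => inf_le_right
  obtain ⟨q, j, hq, hj, hu⟩ := hy'
  have hy'' : Cech1.IsCls (units i) (fun p : ι × κ => U p.1 ⊓ V p.2) _ (-x) :=
    ⟨-q, fun a => -j a, (map_neg _ _).trans (congrArg Neg.neg hq), fun a => by rw [map_neg, map_neg, hj],
      fun a b => (map_neg _ _).trans (by rw [hu, map_neg, map_neg]; abel)⟩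
  obtain ⟨w, hw⟩ := ((hx'.add hy'').eq_zero_iff (cover_inf hU hV)).1 (add_neg_cancel x)
  obtain ⟨φ⟩ := hL'.iso_of_coboundary (cover_inf hU hV) hM' (fun a => -w a) fun a b => by
    have h1 := hw a b
    rw [← sub_eq_add_neg, sub_eq_iff_eq_add] at h1
    rw [map_neg, map_neg, h1]
    abel
  exact Quot.sound ⟨φ⟩

theorem Rel.add {x y : CohTop.H (units i) 1} {c d : PicF.Cl Z} (h : Rel i x c) (h' : Rel i y d) :
    Rel i (x + y) (PicGrp.mulCl c d) := by
  obtain ⟨ι, U, hU, u, L, hx, hL, rfl⟩ := h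
  obtain ⟨κ, V, hV, v, M, hy, hM, rfl⟩ := h'
  exact ⟨ι × κ, fun p => U p.1 ⊓ V p.2, cover_inf hU hV, _, _,
    (hx.refine' Prod.fst fun _ => inf_le_left).add (hy.refine' Prod.snd fun _ => inf_le_right),
    (hL.refine' Prod.fst fun _ => inf_le_left).tensor (hM.refine' Prod.snd fun _ => inf_le_right), rfl⟩

theorem Rel.eq_zero {x : CohTop.H (units i) 1} (h : Rel i x (PicF.cl (Coh.structureModule Z))) :
    x = 0 := by
  obtain ⟨ι, U, hU, u, L, hx, hL, hc⟩ := h
  obtain ⟨φ⟩ := H23.PicMul.cl_eq_iff.1 hc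
  exact (hx.eq_zero_iff hU).2 (coboundary_of_trivial (hL.iso φ))

theorem exists_rel_of_isInvertible (hi : IsHomeomorph i.base) {L : Z.Modules} (hL : PicF.IsInvertible L) :
    ∃ x, Rel i x (PicF.cl L) := by
  choose W hW e he using fun p : X => InvX.exists_frame hL (hi.homeomorph.symm p)
  have hV : ∀ p : X, ∃ V : X.Opens, i ⁻¹ᵁ V = W p := fun p =>
    ⟨⟨i.base '' (W p : Set Z), hi.isOpenMap _ (W p).isOpen⟩,
      Opens.ext (Set.preimage_image_eq _ hi.injective)⟩
  choose V hV using hV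
  have hUc : iSup V = ⊤ := top_le_iff.1 fun p _ => by
    refine Opens.mem_iSup.2 ⟨p, ?_⟩
    have : hi.homeomorph.symm p ∈ i ⁻¹ᵁ V p := (hV p).symm ▸ hW p
    have h2 : i.base (hi.homeomorph.symm p) = p := hi.homeomorph.apply_symm_apply p
    have h3 : i.base (hi.homeomorph.symm p) ∈ V p := this
    rwa [h2] at h3
  let n : ∀ p, Γ(L, i ⁻¹ᵁ V p) := fun p => res L (hV p).le (e p)
  have hn : ∀ p, IsFrame (n p) := fun p => (he p).res _
  have hg : ∀ a b, ∃ g : Γ(Z, i ⁻¹ᵁ (V a ⊓ V b)), res L (i.preimage_mono inf_le_left) (n a) =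
      g • res L (i.preimage_mono (inf_le_right : V a ⊓ V b ≤ V b)) (n b) := fun a b =>
    (hn b).exists_coord _ _
  choose g hg using hg
  have hgu : ∀ a b, IsUnit (g a b) := fun a b =>
    Trans.isUnit_coord ((hn b).res _) ((hn a).res _) (hg a b)
  let u : Cech1.Fam2 (units i) V := fun a b => mk i (hgu a b)
  have hu : IsLB i V u L := ⟨n, hn, fun a b => by rw [val_mk]; exact hg a b⟩
  have hco : Cech1.IsCocycle (units i) V u := fun a b c O hab hbc hac => by
    refine val_injective i ((hn c).coord_unique (i.preimage_mono (hac.trans inf_le_right)) ?_)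
    rw [val_add, val_rs, val_rs, val_rs, val_mk, val_mk, val_mk, mul_smul]
    have h1 := congrArg (res L (i.preimage_mono hac)) (hg a c)
    have h2 := congrArg (res L (i.preimage_mono hab)) (hg a b)
    have h3 := congrArg (res L (i.preimage_mono hbc)) (hg b c)
    rw [res_smul, res_res, res_res] at h1 h2 h3
    simp only [res_res, n] at h1 h2 h3 ⊢
    rw [← h1, ← h3, ← h2]
  obtain ⟨x, hx⟩ := Cech1.exists_isCls hUc u hco
  exact ⟨x, _, V, hUc, u, L, hx, hu, rfl⟩

/-- The comparison map. -/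
noncomputable def toPic (i : Z ⟶ X) (x : CohTop.H (units i) 1) : PicLoc.PicSet Z :=
  ⟨(exists_rel x).choose, (exists_rel x).choose_spec.isInvertibleCl⟩

theorem rel_toPic (x : CohTop.H (units i) 1) : Rel i x (toPic i x).1 := (exists_rel x).choose_spec

theorem toPic_eq {x : CohTop.H (units i) 1} {c : PicF.Cl Z} (h : Rel i x c) : (toPic i x).1 = c :=
  (rel_toPic x).unique h

theorem toPic_add (x y : CohTop.H (units i) 1) :
    (toPic i (x + y)).1 = PicGrp.mulCl (toPic i x).1 (toPic i y).1 :=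
  toPic_eq ((rel_toPic x).add (rel_toPic y))

/-- The comparison as a homomorphism for the group law. -/
noncomputable def picHom (i : Z ⟶ X) [PicGrp.Law Z] :
    Multiplicative (CohTop.H (units i) 1) →* PicLoc.PicSet Z :=
  MonoidHom.mk' (fun x => toPic i x.toAdd) fun x y =>
    Subtype.ext ((toPic_add x.toAdd y.toAdd).trans (PicGrp.mul_val _ _).symm)

theorem picHom_bijective (hi : IsHomeomorph i.base) [PicGrp.Law Z] : Function.Bijective (picHom i) := by
  refine ⟨(injective_iff_map_eq_one _).2 fun x hx => ?_, fun c => ?_⟩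
  · have h : (toPic i x.toAdd).1 = PicF.cl (Coh.structureModule Z) :=
      (congrArg Subtype.val hx).trans PicGrp.one_val
    exact Multiplicative.toAdd.injective ((h ▸ rel_toPic (i := i) x.toAdd).eq_zero)
  · obtain ⟨L, hL, rfl⟩ := PicGrp.exists_eq_cls c
    obtain ⟨x, hx⟩ := exists_rel_of_isInvertible hi hL
    exact ⟨Multiplicative.ofAdd x, Subtype.ext (toPic_eq hx)⟩

/-- The comparison isomorphism. -/
noncomputable def picEquiv (i : Z ⟶ X) (hi : IsHomeomorph i.base) [PicGrp.Law Z] :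
    Multiplicative (CohTop.H (units i) 1) ≃* PicLoc.PicSet Z :=
  MulEquiv.ofBijective (picHom i) (picHom_bijective hi)

/-! ### Pulling back along a homeomorphism over the base -/

variable (j : Z ⟶ X)

/-- Restriction of units to `Z`. -/
noncomputable def unitsRes : units (𝟙 X) ⟶ units j :=
  ⟨{ app := fun V => AddCommGrpCat.ofHom
      (Units.map ((j.app V.unop).hom : Γ(X, V.unop) →* Γ(Z, j ⁻¹ᵁ V.unop))).toAdditive
     naturality := fun V W h => by
      ext s
      exact val_injective j (ConcreteCategory.congr_hom (j.naturality h) (val (𝟙 X) s)) }⟩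

theorem val_unitsRes (V : X.Opens) (s : (units (𝟙 X)).obj.obj (op V)) :
    val j ((unitsRes j).hom.app (op V) s) = j.app V (val (𝟙 X) s) := rfl

theorem Rel.pull {x : CohTop.H (units (𝟙 X)) 1} {c : PicF.Cl X} (h : Rel (𝟙 X) x c) :
    Rel j (Cech1.hmap (unitsRes j) 1 x) (PicF.pullCl j c) := by
  obtain ⟨ι, U, hU, u, L, hx, ⟨e, he, hu⟩, rfl⟩ := h
  refine ⟨ι, U, hU, _, (Scheme.Modules.pullback j).obj L, hx.map (unitsRes j),
    ⟨fun a => pullElt j (e a), fun a => isFrame_pullElt j (he a), fun a b => ?_⟩, rfl⟩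
  have h1 := congrArg (pullElt j) (hu a b)
  rw [pullElt_smul] at h1
  rw [val_unitsRes]
  exact (res_pullElt j (inf_le_left : U a ⊓ U b ≤ U a) (e a)).trans
    (h1.trans (congrArg _ (res_pullElt j (inf_le_right : U a ⊓ U b ≤ U b) (e b)).symm))

theorem toPic_pull (x : CohTop.H (units (𝟙 X)) 1) :
    (toPic j (Cech1.hmap (unitsRes j) 1 x)).1 = PicF.pullCl j (toPic (𝟙 X) x).1 :=
  toPic_eq ((rel_toPic x).pull j)

end Groth.Agent.PicfLib.H1Pic
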