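import Groth.Agent.Hensel.EtaleReduced
import Groth.Prelude.Def_Pi1
import Mathlib.AlgebraicGeometry.FunctionField
import Mathlib.AlgebraicGeometry.Morphisms.UniversallyOpen
import Mathlib.AlgebraicGeometry.ResidueField
import Mathlib.AlgebraicGeometry.Morphisms.FormallyUnramified
import Mathlib.AlgebraicGeometry.Morphisms.Etale
import Mathlib.FieldTheory.PurelyInseparable.PerfectClosure

/-!
# `p`-th roots of functions on a normal scheme existing on a finite étale cover
-/

universe u

open CategoryTheory AlgebraicGeometry TopologicalSpace Opposite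

namespace Groth.Agent.PicfLib.Insep

set_option backward.isDefEq.respectTransparency false

variable {X' X : Scheme.{u}} (f : X' ⟶ X)

theorem isReduced_of_etaleHom [Etale f] [IsReduced X] : IsReduced X' := by
  have key : ∀ x : ↥X', ∃ W : X'.Opens, x ∈ W ∧ IsReduced W.toScheme := by
    intro x
    obtain ⟨U, hU, hxU, -⟩ := exists_isAffineOpen_mem_and_subset (U := (⊤ : X.Opens)) (x := f x) trivial
    obtain ⟨V, hV, hxV, hVU⟩ := exists_isAffineOpen_mem_and_subset (U := f ⁻¹ᵁ U) (x := x) hxU
    have : IsAffine U.toScheme := hU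
    have : IsAffine V.toScheme := hV
    let g : V.toScheme ⟶ U.toScheme := f.resLE U V hVU
    have : Etale g := by
      have h4 : Etale (g ≫ U.ι) := by rw [Scheme.Hom.resLE_comp_ι]; infer_instance
      exact MorphismProperty.of_postcomp (W := @Etale) (W' := @Etale) g U.ι inferInstance h4
    have : IsReduced U.toScheme := isReduced_of_isOpenImmersion U.ι
    let _ := g.appTop.hom.toAlgebra
    have h : g.appTop.hom.Etale := (HasRingHomProperty.iff_of_isAffine (P := @Etale)).1 ‹Etale g›
    have : Algebra.Etale Γ(U.toScheme, ⊤) Γ(V.toScheme, ⊤) := h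
    have : _root_.IsReduced Γ(V.toScheme, ⊤) := Hensel.isReduced_of_etale Γ(U.toScheme, ⊤) _
    exact ⟨V, hxV, isReduced_of_isOpenImmersion V.toScheme.isoSpec.hom⟩
  choose W hxW hW using key
  exact @IsReduced.of_openCover _ (X'.openCoverOfIsOpenCover W
    (.mk (top_unique fun x _ => TopologicalSpace.Opens.mem_iSup.mpr ⟨x, hxW x⟩))) hW

theorem surjective_of_connected [IsFinite f] [Etale f] [PreconnectedSpace X] [Nonempty X'] :
    Function.Surjective f.base := by
  have h : IsClopen (Set.range f.base) :=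
    ⟨f.isClosedMap.isClosed_range, f.isOpenMap.isOpen_range⟩
  exact Set.range_eq_univ.1 ((isClopen_iff.1 h).resolve_left (Set.range_nonempty _).ne_empty)

/-- A separable element whose `p`-th power is in the base field is in the base field. -/
theorem mem_range_of_pow {F E : Type u} [Field F] [Field E] [Algebra F E] [Algebra.IsSeparable F E]
    (p : ℕ) [Fact p.Prime] [CharP F p] (z : E) (a : F) (h : z ^ p = algebraMap F E a) :
    ∃ c : F, algebraMap F E c = z := by
  haveI : ExpChar F p := .prime Fact.out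
  have h1 : IntermediateField.adjoin F {z} = ⊥ := by
    rw [IntermediateField.adjoin_simple_eq_adjoin_pow_expChar_pow_of_isSeparable' F E z p 1, pow_one, h]
    exact IntermediateField.adjoin_simple_eq_bot_iff.2 (IntermediateField.mem_bot.2 ⟨a, rfl⟩)
  exact IntermediateField.mem_bot.1 (IntermediateField.adjoin_simple_eq_bot_iff.1 h1)

theorem charP_of_hom {K R : Type u} [Field K] [CommRing R] [Nontrivial R] (p : ℕ) [CharP K p]
    (φ : K →+* R) : CharP R p :=
  charP_of_injective_ringHom φ.injective p

/-- A `p`-th root upstairs of a function gives one downstairs. -/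
theorem exists_root [IsIntegral X] (hnorm : Pi1.IsNormalScheme X) [IsFinite f] [Etale f]
    (hsurj : Function.Surjective f.base) (p : ℕ) [Fact p.Prime]
    (hchar : CharP X.functionField p) {U : X.Opens} (a : Γ(X, U)) (v : Γ(X', f ⁻¹ᵁ U))
    (hv : v ^ p = f.app U a) {x : X} (hx : x ∈ U) :
    ∃ (W : X.Opens) (hW : W ≤ U) (_ : x ∈ W) (b : Γ(X, W)),
      b ^ p = X.presheaf.map (homOfLE hW).op a := by
  obtain ⟨x', hx'⟩ := hsurj (genericPoint X)
  have hηU : genericPoint X ∈ U := ((genericPoint_spec X).mem_open_set_iff U.isOpen).mpr ⟨x, by simpa⟩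
  have hx'U : x' ∈ f ⁻¹ᵁ U := show f.base x' ∈ U from hx' ▸ hηU
  have hfld : IsField (X.presheaf.stalk (f.base x')) :=
    hx'.symm ▸ Field.toIsField X.functionField
  have hres : Function.Bijective (X.residue (f.base x')) :=
    ⟨(RingHom.injective_iff_ker_eq_bot _).2 (by
      show RingHom.ker (IsLocalRing.residue (X.presheaf.stalk (f.base x'))) = ⊥
      rw [IsLocalRing.ker_residue]
      exact IsLocalRing.isField_iff_maximalIdeal_eq.1 hfld), X.residue_surjective _⟩
  have hcharA : CharP (X.residueField (f.base x')) p := by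
    haveI : CharP (X.presheaf.stalk (f.base x')) p := hx'.symm ▸ hchar
    exact charP_of_injective_ringHom (f := (X.residue (f.base x')).hom) hres.1 p
  letI : Algebra (X.residueField (f.base x')) (X'.residueField x') := (f.residueFieldMap x').hom.toAlgebra
  have hz : (X'.evaluation (f ⁻¹ᵁ U) x' hx'U v) ^ p =
      algebraMap (X.residueField (f.base x')) _ (X.evaluation U (f.base x') hx'U a) := by
    rw [← map_pow, hv]
    exact (Scheme.evaluation_naturality_apply f x' hx'U a).symm
  obtain ⟨c, hc⟩ := mem_range_of_pow p _ _ hz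
  have hc' : c ^ p = X.evaluation U (f.base x') hx'U a := by
    refine (algebraMap (X.residueField (f.base x')) (X'.residueField x')).injective ?_
    rw [map_pow, hc, hz]
  obtain ⟨c₀, rfl⟩ := hres.2 c
  have hc₀ : c₀ ^ p = X.presheaf.germ U (f.base x') hx'U a := hres.1 (by
    rw [map_pow]; exact hc')
  have key : ∀ (y : X) (hy : y ∈ U), y = genericPoint X → ∀ c : X.presheaf.stalk y,
      c ^ p = X.presheaf.germ U y hy a →
        ∃ c₁ : X.functionField, c₁ ^ p = X.presheaf.germ U (genericPoint X) hηU a := by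
    rintro y hy rfl c h
    exact ⟨c, h⟩
  have := key _ hx'U hx' c₀ hc₀
  obtain ⟨c₁, hc₁⟩ := this
  haveI := (hnorm x).2
  haveI : Nonempty U := ⟨⟨x, hx⟩⟩
  have hp : 0 < p := (Fact.out : p.Prime).pos
  have hint : _root_.IsIntegral (X.presheaf.stalk x) c₁ := by
    refine IsIntegral.of_pow hp ?_
    rw [hc₁]
    have := Scheme.algebraMap_germ_eq_germToFunctionField (X := X) hx a
    exact (congrArg (_root_.IsIntegral _) this).mp isIntegral_algebraMap
  obtain ⟨b₀, hb₀⟩ := IsIntegrallyClosed.isIntegral_iff.1 hint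
  obtain ⟨W₀, hxW₀, b₁, rfl⟩ := X.presheaf.exists_germ_eq b₀
  haveI : Nonempty W₀ := ⟨⟨x, hxW₀⟩⟩
  refine ⟨W₀ ⊓ U, inf_le_right, ⟨hxW₀, hx⟩, X.presheaf.map (homOfLE inf_le_left).op b₁, ?_⟩
  have hη : genericPoint X ∈ W₀ ⊓ U :=
    ((genericPoint_spec X).mem_open_set_iff (W₀ ⊓ U).isOpen).mpr ⟨x, by simpa using And.intro hxW₀ hx⟩
  apply germ_injective_of_isIntegral (X := X) (genericPoint X) hη
  rw [map_pow, X.presheaf.germ_res_apply, X.presheaf.germ_res_apply, ← hc₁, ← hb₀]
  rw [Scheme.algebraMap_germ_eq_germToFunctionField]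

end Groth.Agent.PicfLib.Insep
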