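import Groth.Agent.H23.CoverPush
import Groth.Agent.AModX.Res
import Mathlib.RingTheory.Norm.Basic

/-!
# The norm of functions along a finite locally free morphism of constant degree

The norm over an open is `Algebra.norm`; it is well behaved over the opens contained in an open with a
frame of the direct image, and these cover the target.
-/

universe u

open CategoryTheory AlgebraicGeometry TopologicalSpace Opposite

namespace Groth.Agent.PicfLib.Norm

open Groth.Agent.AModX

variable {X' X : Scheme.{u}} (f : X' ⟶ X) {d : ℕ}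

/-- The direct image of the structure sheaf. -/
noncomputable abbrev push : X.Modules :=
  (Scheme.Modules.pushforward f).obj (Coh.structureModule X')

/-- An open carrying a frame of the direct image. -/
def Good (d : ℕ) (U : X.Opens) : Prop :=
  ∃ s : Fin d → Γ(push f, U), H23.Frame.IsFrame (push f) s

theorem Good.mono {U V : X.Opens} (h : Good f d U) (hV : V ≤ U) : Good f d V :=
  h.elim fun s hs => ⟨_, hs.res hV⟩

theorem exists_good (hf : Mor2.IsFinLocFreeOfDeg d f) (x : X) :
    ∃ U : X.Opens, x ∈ U ∧ Good f d U := by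
  obtain ⟨U, hx, ⟨e⟩⟩ := H23.CoverPush.isFinLocFreeOfRank_push_of_isCover f hf x
  exact ⟨U, hx, H23.Frame.exists_frame e⟩

/-- The norm over an open. -/
noncomputable def norm (V : X.Opens) (b : Γ(X', f ⁻¹ᵁ V)) : Γ(X, V) :=
  letI := H23.CoverPush.alg f V
  Algebra.norm Γ(X, V) b

theorem norm_mul (V : X.Opens) (a b : Γ(X', f ⁻¹ᵁ V)) : norm f V (a * b) = norm f V a * norm f V b :=
  letI := H23.CoverPush.alg f V
  map_mul (Algebra.norm Γ(X, V)) a b

theorem isUnit_norm (V : X.Opens) {a : Γ(X', f ⁻¹ᵁ V)} (ha : IsUnit a) : IsUnit (norm f V a) :=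
  letI := H23.CoverPush.alg f V
  ha.map (Algebra.norm Γ(X, V))

/-- The combination in the algebra over an open. -/
noncomputable def combA {U : X.Opens} (s : Fin d → Γ(push f, U)) (W : X.Opens) (h : W ≤ U)
    (c : Fin d → Γ(X, W)) : Γ(X', f ⁻¹ᵁ W) :=
  ∑ i, f.app W (c i) * resR (X := X') (f.preimage_mono h) (show Γ(X', f ⁻¹ᵁ U) from s i)

/-- The basis over an open given by a frame. -/
noncomputable def basis {U : X.Opens} {s : Fin d → Γ(push f, U)} (hs : H23.Frame.IsFrame (push f) s)
    (W : X.Opens) (h : W ≤ U) :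
    letI := H23.CoverPush.alg f W
    Module.Basis (Fin d) Γ(X, W) Γ(X', f ⁻¹ᵁ W) :=
  letI := H23.CoverPush.alg f W
  Module.Basis.ofEquivFun (LinearEquiv.ofBijective
    ({ toFun := combA f s W h
       map_add' := fun c c' => by simp [combA, add_mul, Finset.sum_add_distrib]
       map_smul' := fun r c => by
        show combA f s W h (r • c) = f.app W r * combA f s W h c
        simp [combA, Finset.mul_sum, mul_assoc] } : (Fin d → Γ(X, W)) →ₗ[Γ(X, W)] Γ(X', f ⁻¹ᵁ W))
    (hs W h)).symm

theorem basis_apply {U : X.Opens} {s : Fin d → Γ(push f, U)} (hs : H23.Frame.IsFrame (push f) s)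
    (W : X.Opens) (h : W ≤ U) (i : Fin d) :
    basis f hs W h i = resR (X := X') (f.preimage_mono h) (show Γ(X', f ⁻¹ᵁ U) from s i) := by
  classical
  letI := H23.CoverPush.alg f W
  rw [basis, Module.Basis.coe_ofEquivFun]
  show combA f s W h (Pi.single i 1) = _
  rw [combA, Finset.sum_eq_single i (fun j _ hj => by simp [hj]) (by simp), Pi.single_eq_same,
    map_one, one_mul]

theorem norm_map {d : ℕ} {U : X.Opens} (hU : Good f d U) {V W : X.Opens} (hV : V ≤ U) (hW : W ≤ V)
    (b : Γ(X', f ⁻¹ᵁ V)) :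
    norm f W (resR (f.preimage_mono hW) b) = resR hW (norm f V b) := by
  classical
  obtain ⟨s, hs⟩ := hU
  let B := basis f hs V hV
  let B' := basis f hs W (hW.trans hV)
  let ρ := resR (X := X) hW
  let σ := resR (X := X') (f.preimage_mono hW)
  have hB : ∀ i, B' i = σ (B i) := fun i => by
    rw [basis_apply, basis_apply]
    exact (resR_resR _ _ _).symm
  letI := H23.CoverPush.alg f V
  letI := H23.CoverPush.alg f W
  have hc : ∀ r, σ (algebraMap Γ(X, V) Γ(X', f ⁻¹ᵁ V) r) = algebraMap Γ(X, W) Γ(X', f ⁻¹ᵁ W) (ρ r) := fun r =>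
    (ConcreteCategory.congr_hom (f.naturality (homOfLE hW).op) r).symm
  show Algebra.norm Γ(X, W) (σ b) = ρ (Algebra.norm Γ(X, V) b)
  rw [Algebra.norm_eq_matrix_det B', Algebra.norm_eq_matrix_det B, RingHom.map_det]
  congr 1
  ext i j
  rw [RingHom.mapMatrix_apply, Matrix.map_apply, Algebra.leftMulMatrix_eq_repr_mul,
    Algebra.leftMulMatrix_eq_repr_mul]
  have h1 : σ b * B' j = ∑ k, ρ (B.repr (b * B j) k) • B' k := by
    rw [hB, ← map_mul]
    conv_lhs => rw [← B.sum_repr (b * B j)]
    simp only [map_sum, Algebra.smul_def, map_mul, hc, hB]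
  rw [h1, B'.repr_sum_self]

theorem norm_app {d : ℕ} {U : X.Opens} (hU : Good f d U) {V : X.Opens} (hV : V ≤ U) (a : Γ(X, V)) :
    norm f V (f.app V a) = a ^ d := by
  obtain ⟨s, hs⟩ := hU
  letI := H23.CoverPush.alg f V
  show Algebra.norm Γ(X, V) (algebraMap Γ(X, V) Γ(X', f ⁻¹ᵁ V) a) = a ^ d
  rw [Algebra.norm_algebraMap_of_basis (basis f hs V hV), Fintype.card_fin]

end Groth.Agent.PicfLib.Norm
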