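import Groth.Agent.PnCoh.Chow.Proper

universe u

open CategoryTheory AlgebraicGeometry

namespace Groth.Agent.PicfLib

theorem isProper_projSpaceOver_toBase (n : ℕ) (S : Scheme.{u}) :
    IsProper (CohB1.ProjSpaceOver.toBase n S) :=
  MorphismProperty.pullback_snd _ _ (PnCoh.Chow.isProper_toSpec n (ULift.{u} ℤ))

end Groth.Agent.PicfLib
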