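import Groth.Agent.PicfLib.H1Pic
import Groth.Agent.OmegaLib.IdealMod
import Groth.Prelude.Def_Coh

/-!
# The units sequence of a first order thickening
-/

universe u

open CategoryTheory CategoryTheory.Limits AlgebraicGeometry TopologicalSpace Opposite

namespace Groth.Agent.PicfLib.UnitsSeq

set_option backward.isDefEq.respectTransparency false
set_option backward.isDefEq.respectTransparency.types false
set_option linter.style.haveILetI false

open Groth.Agent.AModX Groth.Agent.PicfLib H1Pic

variable {X : Scheme.{u}} (I : X.IdealSheafData)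

theorem isHomeomorph_subschemeι (hI : I * I = ⊥) : IsHomeomorph I.subschemeι.base := by
  have hs : (I.support : Set X) = Set.univ := by
    have h : (I * I).support = (⊤ : Closeds X) := by rw [hI]; exact Scheme.IdealSheafData.support_bot
    rw [Scheme.IdealSheafData.support_mul, sup_idem] at h
    rw [h]; rfl
  refine isHomeomorph_iff_isEmbedding_surjective.2
    ⟨I.subschemeι.isClosedEmbedding.isEmbedding, Set.range_eq_univ.1 ?_⟩
  exact (Scheme.IdealSheafData.range_subschemeι I).trans hs

variable {I}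

theorem idealSect_mul_eq_zero (hI : I * I = ⊥) (U : X.Opens) (k l : Γ(ClSub.idealMod I, U)) :
    OmegaSh.idealSect I U k * OmegaSh.idealSect I U l = 0 := by
  refine TopCat.Sheaf.eq_of_locally_eq' X.sheaf
    (fun V : {V : X.affineOpens // V.1 ≤ U} => V.1.1) U (fun V => homOfLE V.2)
    (fun p hp => by
      obtain ⟨_, ⟨V, hV, rfl⟩, hpV, hVU⟩ := X.isBasis_affineOpens.exists_subset_of_mem_open hp U.2
      exact Opens.mem_iSup.2 ⟨⟨⟨V, hV⟩, hVU⟩, hpV⟩) _ _ fun V => ?_
  show resR V.2 (_ * _) = resR V.2 0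
  rw [map_mul, map_zero]
  have h := Ideal.mul_mem_mul
    (OmegaLib.idealSect_mem I V.1 ((ClSub.idealMod I).presheaf.map (homOfLE V.2).op k))
    (OmegaLib.idealSect_mem I V.1 ((ClSub.idealMod I).presheaf.map (homOfLE V.2).op l))
  rw [← Pi.mul_apply I.ideal I.ideal, ← Scheme.IdealSheafData.ideal_mul, hI,
    Scheme.IdealSheafData.ideal_bot, Pi.bot_apply, Ideal.mem_bot,
    OmegaLib.idealSect_map, OmegaLib.idealSect_map] at h
  exact h

theorem isUnit_one_add (hI : I * I = ⊥) (U : X.Opens) (k : Γ(ClSub.idealMod I, U)) :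
    IsUnit (1 + OmegaSh.idealSect I U k) :=
  IsUnit.of_mul_eq_one (1 - OmegaSh.idealSect I U k)
    (by linear_combination -(idealSect_mul_eq_zero hI U k k))

theorem one_add_add (hI : I * I = ⊥) (U : X.Opens) (k l : Γ(ClSub.idealMod I, U)) :
    1 + OmegaSh.idealSect I U (k + l) =
      (1 + OmegaSh.idealSect I U k) * (1 + OmegaSh.idealSect I U l) := by
  rw [map_add]
  linear_combination -(idealSect_mul_eq_zero hI U k l)

/-- The map sending a section of the ideal to one plus the section. -/
noncomputable def oneAdd (hI : I * I = ⊥) : Coh.toAb (ClSub.idealMod I) ⟶ units (𝟙 X) :=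
  ⟨{ app := fun V => AddCommGrpCat.ofHom
      (AddMonoidHom.mk' (fun k => mk (𝟙 X) (isUnit_one_add hI V.unop k)) fun k l => by
        refine val_injective (𝟙 X) ?_
        rw [val_add, val_mk, val_mk, val_mk]
        exact one_add_add hI V.unop k l)
     naturality := fun V W h => by
      ext k
      refine val_injective (𝟙 X) ?_
      show 1 + OmegaSh.idealSect I W.unop ((ClSub.idealMod I).presheaf.map h k) =
        resR (X := X) (leOfHom h.unop) (1 + OmegaSh.idealSect I V.unop k)
      rw [map_add, map_one]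
      exact congrArg _ (OmegaLib.idealSect_map I (leOfHom h.unop) k) }⟩

/-- The function underlying a unit of `X`. -/
noncomputable abbrev valId {V : X.Opens} (s : (units (𝟙 X)).obj.obj (op V)) : Γ(X, V) := val (𝟙 X) s

theorem val_oneAdd (hI : I * I = ⊥) (V : X.Opens) (k : Γ(ClSub.idealMod I, V)) :
    valId ((oneAdd hI).hom.app (op V) k) = 1 + OmegaSh.idealSect I V k :=
  val_mk (𝟙 X) _

theorem oneAdd_injective (hI : I * I = ⊥) (V : X.Opens) :
    Function.Injective ((oneAdd hI).hom.app (op V)) := fun k l h => by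
  have h1 := congrArg (valId (X := X) (V := V)) h
  rw [val_oneAdd, val_oneAdd] at h1
  exact OmegaLib.idealSect_injective I V (add_left_cancel h1)

theorem oneAdd_comp (hI : I * I = ⊥) : oneAdd hI ≫ unitsRes I.subschemeι = 0 := by
  apply Sheaf.hom_ext
  ext V k
  refine val_injective I.subschemeι ?_
  show val I.subschemeι ((unitsRes I.subschemeι).hom.app V ((oneAdd hI).hom.app V k)) = 1
  obtain ⟨V⟩ := V
  rw [val_unitsRes]
  show I.subschemeι.app V (valId ((oneAdd hI).hom.app (op V) k)) = 1
  rw [val_oneAdd, map_add, map_one, OmegaLib.subschemeι_app_idealSect, add_zero]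

theorem exists_oneAdd_eq (hI : I * I = ⊥) (V : X.Opens) (s : (units (𝟙 X)).obj.obj (op V))
    (h : (unitsRes I.subschemeι).hom.app (op V) s = 0) :
    ∃ k, (oneAdd hI).hom.app (op V) k = s := by
  have h1 := congrArg (val I.subschemeι) h
  rw [val_unitsRes, val_zero] at h1
  obtain ⟨k, hk⟩ := OmegaLib.exists_idealSect_eq I V (valId s - 1)
    (by rw [map_sub, map_one]; exact sub_eq_zero.2 h1)
  exact ⟨k, val_injective (𝟙 X) (((val_oneAdd hI V k).trans (by rw [hk, add_sub_cancel])) : valId _ = valId s)⟩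

theorem exists_local_lift (hI : I * I = ⊥) {V : X.Opens}
    (t : (units I.subschemeι).obj.obj (op V)) {p : X} (hp : p ∈ V) :
    ∃ (W : X.Opens) (hWV : W ≤ V), p ∈ W ∧ ∃ s : (units (𝟙 X)).obj.obj (op W),
      (unitsRes I.subschemeι).hom.app (op W) s = Cech1.rs (units I.subschemeι) hWV t := by
  obtain ⟨_, ⟨W, hW, rfl⟩, hpW, hWV⟩ := X.isBasis_affineOpens.exists_subset_of_mem_open hp V.2
  obtain ⟨a, ha⟩ := I.subschemeι_app_surjective ⟨W, hW⟩
    (resR (X := I.subscheme) (I.subschemeι.preimage_mono hWV) (val I.subschemeι t))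
  obtain ⟨b, hb⟩ := I.subschemeι_app_surjective ⟨W, hW⟩
    (((isUnit_val I.subschemeι t).map (resR (X := I.subscheme) (I.subschemeι.preimage_mono hWV))).unit⁻¹).1
  have hab : IsUnit a := by
    obtain ⟨k, hk⟩ := OmegaLib.exists_idealSect_eq I W (a * b - 1) (by
      rw [map_sub, map_mul, map_one]
      erw [ha, hb]
      rw [IsUnit.mul_val_inv, sub_self])
    have h := isUnit_one_add hI W k
    rw [hk, add_sub_cancel] at h
    exact isUnit_of_mul_isUnit_left h
  refine ⟨W, hWV, hpW, mk (𝟙 X) (r := a) hab, val_injective I.subschemeι ?_⟩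
  rw [val_unitsRes, val_mk, val_rs]
  exact ha

/-- The units sequence. -/
noncomputable def seq (hI : I * I = ⊥) : ShortComplex (CohTop.Ab X.toTopCat) :=
  ShortComplex.mk (oneAdd hI) (unitsRes I.subschemeι) (oneAdd_comp hI)

theorem seq_shortExact (hI : I * I = ⊥) : (seq hI).ShortExact where
  mono_f := by
    refine (sheafToPresheaf _ _).mono_of_mono_map (f := oneAdd hI) ?_
    have : ∀ V, Mono ((oneAdd hI).hom.app V) := fun V =>
      (AddCommGrpCat.mono_iff_injective _).2 (oneAdd_injective hI V.unop)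
    exact NatTrans.mono_of_mono_app (oneAdd hI).hom
  exact := by
    rw [ShortComplex.exact_iff_epi_kernel_lift]
    refine (sheafToPresheaf _ _).epi_of_epi_map ?_
    have : ∀ V, Epi ((kernel.lift (seq hI).g (seq hI).f (seq hI).zero).hom.app V) := fun V => by
      refine (AddCommGrpCat.epi_iff_surjective _).2 fun x => ?_
      have hx : (seq hI).g.hom.app V ((kernel.ι (seq hI).g).hom.app V x) = 0 :=
        congr($(kernel.condition (seq hI).g).hom.app V x)
      obtain ⟨k, hk⟩ := exists_oneAdd_eq hI V.unop _ hx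
      refine ⟨k, (AddCommGrpCat.mono_iff_injective ((kernel.ι (seq hI).g).hom.app V)).1 ?_ ?_⟩
      · exact inferInstanceAs (Mono (((evaluation _ _).obj V).map
          ((sheafToPresheaf _ _).map (kernel.ι (seq hI).g))))
      · exact Eq.trans congr($(kernel.lift_ι (seq hI).g (seq hI).f (seq hI).zero).hom.app V k) hk
    exact NatTrans.epi_of_epi_app ((kernel.lift (seq hI).g (seq hI).f (seq hI).zero).hom)
  epi_g := by
    refine (Sheaf.isLocallySurjective_iff_epi' AddCommGrpCat.{u} (seq hI).g).1 ?_
    refine ⟨fun {V} t p hp => ?_⟩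
    obtain ⟨W, hWV, hpW, s, hs⟩ := exists_local_lift hI t hp
    exact ⟨W, homOfLE hWV, ⟨s, hs⟩, hpW⟩

end Groth.Agent.PicfLib.UnitsSeq
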