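import Groth.Agent.H23.SeesawGlobal
import Groth.Agent.S16759

/-!
# The base is universally the ring of functions when the fibres have constant functions
-/

universe u

open CategoryTheory CategoryTheory.Limits AlgebraicGeometry TopologicalSpace Opposite

namespace Groth.Agent.PicfLib.UnivH0

open Groth.Agent.H23 Groth.Agent.InvX

section Chart

variable {A : Type u} [CommRing A] {X : Scheme.{u}} [X.Over (Spec (CommRingCat.of A))]
  [IsNoetherianRing A] [IsProper (X ↘ Spec (CommRingCat.of A))] [Flat (X ↘ Spec (CommRingCat.of A))]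

local notation "π" => (X ↘ Spec (CommRingCat.of A))

theorem bijective_of_fibreH0 (h0 : ∀ x : PrimeSpectrum A, Seesaw.FibreH0 X x)
    (B : Type u) [CommRing B] [Algebra A B] :
    Function.Bijective (pullback.snd π (Seesaw.specAlg A B)).appTop := by
  obtain ⟨Q, _, e, hQ⟩ := Seesaw.exists_rep (A := A) (Coh.structureModule X) InvX.isInvertible_structureModule
  let one : Γ(Coh.structureModule X, ⊤) := show Γ(X, ⊤) from 1
  let g := e.symm one
  have hT : ∀ x : PrimeSpectrum A, Seesaw.FibreTriv (Coh.structureModule X) x := fun x =>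
    TrivBasic.Triv.pullback _ ⟨Iso.refl _⟩
  have hne : ∀ x : PrimeSpectrum A, Algebra.linearMap A x.asIdeal.ResidueField ∘ₗ g ≠ 0 := fun x hx => by
    obtain ⟨eB, -, he2⟩ := hQ x.asIdeal.ResidueField _ _ _ (IsPullback.of_hasPullback π _)
    let a := pullback.fst π (Seesaw.specAlg A x.asIdeal.ResidueField)
    have hs : IsFrame (show Γ((Scheme.Modules.pullback a).obj (Coh.structureModule X), ⊤) from
        pullElt a one) := isFrame_pullElt a (InvX.isFrame_one ⊤)
    haveI := (Seesaw.isField_Γ _ (h0 x)).toField.toNontrivial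
    have h := he2 g
    rw [hx, map_zero, AddEquiv.apply_symm_apply] at h
    exact zero_ne_one (hs.coord_unique le_rfl (r := 0) (r' := 1) (by rw [zero_smul, one_smul, AModX.res_self]; exact h))
  have hsurj : Function.Surjective g := by
    rw [← LinearMap.range_eq_top]
    by_contra hI
    obtain ⟨m, hm, hIm⟩ := Ideal.exists_le_maximal _ hI
    refine hne ⟨m, hm.isPrime⟩ (LinearMap.ext fun q => ?_)
    exact Ideal.algebraMap_residueField_eq_zero.2 (hIm ⟨q, rfl⟩)
  obtain ⟨q₁, hq₁⟩ := hsurj 1
  have hinj : ∀ q, g q = 0 → q = 0 := fun q hq => by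
    by_contra hq0
    obtain ⟨m, hm, hIm⟩ := Ideal.exists_le_maximal (LinearMap.ker (LinearMap.toSpanSingleton A Q q))
      fun h => hq0 (by
        have h1 : (1 : A) ∈ LinearMap.ker (LinearMap.toSpanSingleton A Q q) := h ▸ Submodule.mem_top
        rw [LinearMap.mem_ker, LinearMap.toSpanSingleton_apply, one_smul] at h1
        exact h1)
    let x : PrimeSpectrum A := ⟨m, hm.isPrime⟩
    obtain ⟨l1, l2⟩ := Seesaw.line_of_fibreTriv hQ x (h0 x) (hT x)
    obtain ⟨q₀, c, hc, hgen⟩ := SeesawMod.exists_generator x (SeesawMod.fibreRank_eq_one x l1 l2)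
    obtain ⟨b, hb⟩ := hgen q₁
    obtain ⟨a, ha⟩ := hgen q
    have hcb : c = b * g q₀ := by simpa [hq₁] using congrArg g hb
    have hg0 : g q₀ ∉ x.asIdeal := fun h => hc (hcb ▸ Ideal.mul_mem_left _ _ h)
    have hag : g q₀ * a = 0 := by
      have h2 : c * g q = a * g q₀ := by simpa using congrArg g ha
      rw [hq, mul_zero] at h2
      rw [mul_comm]
      exact h2.symm
    have hmem : g q₀ * c ∈ LinearMap.ker (LinearMap.toSpanSingleton A Q q) := by
      rw [LinearMap.mem_ker, LinearMap.toSpanSingleton_apply, mul_smul, ha, ← mul_smul, hag, zero_smul]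
    exact (hm.isPrime.mem_or_mem (hIm hmem)).elim hg0 hc
  obtain ⟨eB, he1, he2⟩ := hQ B _ _ _ (IsPullback.of_hasPullback π (Seesaw.specAlg A B))
  let a := pullback.fst π (Seesaw.specAlg A B)
  have hs : IsFrame (show Γ((Scheme.Modules.pullback a).obj (Coh.structureModule X), ⊤) from
      pullElt a one) := isFrame_pullElt a (InvX.isFrame_one ⊤)
  have hlin : Function.Bijective fun b : B =>
      LinearMap.mulLeft A b ∘ₗ (Algebra.linearMap A B ∘ₗ g) := by
    refine ⟨fun b b' h => ?_, fun w => ⟨w q₁, LinearMap.ext fun q => ?_⟩⟩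
    · simpa [hq₁] using LinearMap.congr_fun h q₁
    · have hq : q = g q • q₁ := sub_eq_zero.1 (hinj _ (by simp [hq₁]))
      show w q₁ * algebraMap A B (g q) = w q
      conv_rhs => rw [hq, map_smul, Algebra.smul_def, mul_comm]
  have hcomp : Function.Bijective (Coh.toGlobal (pullback.snd π (Seesaw.specAlg A B))) := by
    have hb := eB.bijective.comp hlin
    refine (Function.Bijective.of_comp_iff' (hs ⊤ le_rfl) _).1 ?_
    convert hb using 1
    funext b
    show _ = eB (LinearMap.mulLeft A b ∘ₗ (Algebra.linearMap A B ∘ₗ g))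
    rw [he1, he2, AddEquiv.apply_symm_apply]
    simp only [Function.comp_apply]
    erw [AModX.res_self]
  have := hcomp.comp (ConcreteCategory.bijective_of_isIso (Scheme.ΓSpecIso (CommRingCat.of B)).hom)
  refine (congrArg Function.Bijective (funext fun z => ?_)).mp this
  show (pullback.snd π (Seesaw.specAlg A B)).appTop
    ((Scheme.ΓSpecIso (CommRingCat.of B)).inv ((Scheme.ΓSpecIso (CommRingCat.of B)).hom z)) = _
  rw [Iso.hom_inv_id_apply]

end Chart

variable {X Y : Scheme.{u}} (f : X ⟶ Y)

theorem bij_of_iso {S S' : Scheme.{u}} (k : S ⟶ Y) (e : S' ⟶ S) [IsIso e]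
    (h : Function.Bijective (pullback.snd f k).appTop) :
    Function.Bijective (pullback.snd f (e ≫ k)).appTop := by
  have he : pullback.snd f (e ≫ k) = (pullbackLeftPullbackSndIso f k e).inv ≫
      pullback.fst (pullback.snd f k) e ≫ pullback.snd f k ≫ inv e := by
    rw [← Category.assoc (pullback.fst (pullback.snd f k) e), pullback.condition, Category.assoc,
      IsIso.hom_inv_id, Category.comp_id, pullbackLeftPullbackSndIso_inv_snd_snd]
  rw [he, Scheme.Hom.comp_appTop, Scheme.Hom.comp_appTop, Scheme.Hom.comp_appTop]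
  exact (SeesawGlobal.bijective_appTop_iso (pullbackLeftPullbackSndIso f k e).symm).comp
    ((SeesawGlobal.bijective_appTop_iso (asIso (pullback.fst (pullback.snd f k) e))).comp
      (h.comp (SeesawGlobal.bijective_appTop_iso (asIso e).symm)))

theorem bij_chart [IsProper f] [Flat f] {A B : Type u} [CommRing A] [IsNoetherianRing A] [CommRing B]
    [Algebra A B] (gA : Spec (CommRingCat.of A) ⟶ Y) (h0 : ∀ y, SeesawGlobal.FieldH0 f y) :
    Function.Bijective (pullback.snd f (Seesaw.specAlg A B ≫ gA)).appTop := by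
  have h : Function.Bijective (pullback.snd (pullback.snd f gA) (Seesaw.specAlg A B)).appTop :=
    bijective_of_fibreH0 (X := SeesawGlobal.chart f A gA)
      (fun x => SeesawGlobal.fibreH0_chart f A gA (h0 _)) B
  rw [← pullbackLeftPullbackSndIso_inv_snd_snd f gA (Seesaw.specAlg A B), Scheme.Hom.comp_appTop]
  exact (SeesawGlobal.bijective_appTop_iso (pullbackLeftPullbackSndIso f gA (Seesaw.specAlg A B)).symm).comp h

theorem app_bijective [IsProper f] [Flat f] [IsLocallyNoetherian Y]
    (h0 : ∀ y, SeesawGlobal.FieldH0 f y) {T : Scheme.{u}} (g : T ⟶ Y) (U : T.Opens) :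
    Function.Bijective ((pullback.snd f g).app U) := by
  let p := pullback.snd f g
  have aff : ∀ W : T.Opens, IsAffineOpen W → (∃ V : Y.Opens, IsAffineOpen V ∧ W ≤ g ⁻¹ᵁ V) →
      Function.Bijective (p.app W) := by
    rintro W hW ⟨V, hV, hWV⟩
    haveI := IsLocallyNoetherian.component_noetherian (X := Y) ⟨V, hV⟩
    letI := (g.appLE V W hWV).hom.toAlgebra
    have h1 := bij_chart f (B := Γ(T, W)) hV.fromSpec h0
    have heq : Seesaw.specAlg Γ(Y, V) Γ(T, W) ≫ hV.fromSpec = hW.fromSpec ≫ g :=
      IsAffineOpen.SpecMap_appLE_fromSpec g hV hW hWV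
    rw [heq] at h1
    have h2 := bij_of_iso f (hW.fromSpec ≫ g) hW.isoSpec.hom h1
    rw [← Category.assoc, hW.isoSpec_hom_fromSpec] at h2
    have h3 : Function.Bijective (pullback.snd p W.ι).appTop := by
      rw [← pullbackLeftPullbackSndIso_hom_snd f g W.ι, Scheme.Hom.comp_appTop]
      exact (SeesawGlobal.bijective_appTop_iso (pullbackLeftPullbackSndIso f g W.ι)).comp h2
    rw [← pullbackRestrictIsoRestrict_hom_morphismRestrict, Scheme.Hom.comp_appTop] at h3
    have h4 : Function.Bijective (p ∣_ W).appTop :=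
      (Function.Bijective.of_comp_iff' (SeesawGlobal.bijective_appTop_iso (pullbackRestrictIsoRestrict p W)) _).1 h3
    rw [← ConcreteCategory.isIso_iff_bijective, Scheme.Hom.appTop, morphismRestrict_app] at h4
    have h5 := (ConcreteCategory.isIso_iff_bijective _).1
      (@IsIso.of_isIso_comp_right _ _ _ _ _ (p.app (W.ι ''ᵁ ⊤)) ((pullback f g).presheaf.map
        (eqToHom (image_morphismRestrict_preimage p W ⊤)).op) inferInstance h4)
    exact W.ι_image_top ▸ h5
  let u : Coh.structureModule T ⟶ (Scheme.Modules.pushforward p).obj (Coh.structureModule _) :=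
    SheafOfModules.unitToPushforwardObjUnit p.toRingCatSheafHom
  have hB : Opens.IsBasis {W : T.Opens | IsAffineOpen W ∧ ∃ V : Y.Opens, IsAffineOpen V ∧ W ≤ g ⁻¹ᵁ V} :=
    Opens.isBasis_iff_nbhd.2 fun {W t} ht => by
      obtain ⟨_, ⟨V, hV, rfl⟩, hgV, -⟩ :=
        Y.isBasis_affineOpens.exists_subset_of_mem_open (Set.mem_univ (g t)) isOpen_univ
      obtain ⟨_, ⟨W', hW', rfl⟩, htW, hle⟩ :=
        T.isBasis_affineOpens.exists_subset_of_mem_open (show t ∈ W ⊓ g ⁻¹ᵁ V from ⟨ht, hgV⟩) (W ⊓ g ⁻¹ᵁ V).2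
      exact ⟨W', ⟨hW', V, hV, fun z hz => (hle hz).2⟩, htW, fun z hz => (hle hz).1⟩
  haveI : IsIso u := Groth.Agent.QCoh.isIso_of_isBasis u hB fun W hW => aff W hW.1 hW.2
  exact ((ConcreteCategory.isIso_iff_bijective _).1 (Scheme.Modules.Hom.isIso_iff_isIso_app.1 this U) :)

theorem finrank_eq_one_of_bijective (y : Y)
    (h : Function.Bijective (f.fiberToSpecResidueField y).appTop) :
    Module.finrank (Y.residueField y) Γ(f.fiber y, ⊤) = 1 := by
  have hb : Function.Bijective (algebraMap (Y.residueField y) Γ(f.fiber y, ⊤)) :=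
    h.comp (ConcreteCategory.bijective_of_isIso (Scheme.ΓSpecIso (Y.residueField y)).inv)
  rw [← (LinearEquiv.ofBijective (Algebra.linearMap (Y.residueField y) Γ(f.fiber y, ⊤)) hb).finrank_eq]
  exact Module.finrank_self _

end Groth.Agent.PicfLib.UnivH0
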